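import Mathlib

set_option autoImplicit false

namespace Cfsg.Agent.Lib.Helper61.Zass

/-- `H` has a free (fixed-point-free) finite-dimensional linear representation over an
algebraically closed field. -/
def HasFreeRep (H : Type*) [Group H] : Prop :=
  ∃ (K : Type) (_ : Field K) (_ : IsAlgClosed K) (V : Type) (_ : AddCommGroup V) (_ : Module K V)
    (_ : FiniteDimensional K V) (_ : Nontrivial V) (ρ : H →* Module.End K V),
    ∀ g : H, g ≠ 1 → ∀ v : V, ρ g v = v → v = 0

theorem HasFreeRep.of_injective {H H' : Type*} [Group H] [Group H'] (h : HasFreeRep H)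
    (f : H' →* H) (hf : Function.Injective f) : HasFreeRep H' := by
  obtain ⟨K, i1, i2, V, i3, i4, i5, i6, ρ, hρ⟩ := h
  refine ⟨K, i1, i2, V, i3, i4, i5, i6, ρ.comp f, ?_⟩
  intro g hg v hv
  exact hρ (f g) (fun h1 => hg (hf (by rw [h1, map_one]))) v hv

theorem HasFreeRep.subgroup {H : Type*} [Group H] (h : HasFreeRep H) (S : Subgroup H) :
    HasFreeRep S := h.of_injective S.subtype S.subtype_injective

end Cfsg.Agent.Lib.Helper61.Zass
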