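import Mathlib
set_option autoImplicit false
set_option linter.unusedSimpArgs false
namespace Cfsg.Agent.Lib.Helper61.Zass

section Alg
variable {R : Type*} [Ring R]

theorem grading {K : Type*} [Field K] [Algebra K R] (h2 : (2:K) ≠ 0) (a b s : R)
    (ha : a*a = -1) (hb : b*b = -1) (hab : b*a = -(a*b)) :
    ∃ P Q1 Q2 Q3 : R, s = P + Q1 + Q2 + Q3 ∧ a*P = P*a ∧ b*P = P*b ∧ a*Q1 = Q1*a ∧ b*Q1 = -(Q1*b) ∧
      a*Q2 = -(Q2*a) ∧ b*Q2 = Q2*b ∧ a*Q3 = -(Q3*a) ∧ b*Q3 = -(Q3*b) := by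
  have ha' : ∀ r : R, a*(a*r) = -r := fun r => by rw [← mul_assoc, ha]; simp
  have hb' : ∀ r : R, b*(b*r) = -r := fun r => by rw [← mul_assoc, hb]; simp
  have hab' : ∀ r : R, b*(a*r) = -(a*(b*r)) := fun r => by rw [← mul_assoc, hab]; simp [mul_assoc]
  have h4 : (4:K) ≠ 0 := by
    have : (4:K) = 2*2 := by norm_num
    rw [this]; exact mul_ne_zero h2 h2
  refine ⟨(4⁻¹:K) • (s - a*s*a - b*s*b - (a*b)*s*(a*b)), (4⁻¹:K) • (s - a*s*a + b*s*b + (a*b)*s*(a*b)),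
    (4⁻¹:K) • (s + a*s*a - b*s*b + (a*b)*s*(a*b)), (4⁻¹:K) • (s + a*s*a + b*s*b - (a*b)*s*(a*b)), ?_, ?_, ?_, ?_, ?_, ?_, ?_, ?_, ?_⟩
  · rw [← smul_add, ← smul_add, ← smul_add]
    have : s - a*s*a - b*s*b - (a*b)*s*(a*b) + (s - a*s*a + b*s*b + (a*b)*s*(a*b)) +
      (s + a*s*a - b*s*b + (a*b)*s*(a*b)) + (s + a*s*a + b*s*b - (a*b)*s*(a*b)) = (4:K) • s := by
      have : (4:K) • s = s + s + s + s := by
        have : (4:K) = 1+1+1+1 := by norm_num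
        rw [this]; simp [add_smul]
      rw [this]; abel
    rw [this, smul_smul, inv_mul_cancel₀ h4, one_smul]
  all_goals
    simp only [mul_smul_comm, smul_mul_assoc, ← smul_neg]
    congr 1
    simp only [mul_add, add_mul, mul_sub, sub_mul, mul_neg, neg_mul, neg_neg, mul_assoc, ha, ha', hb, hb', hab, hab', mul_one, one_mul]
    try abel

theorem star_core (h2 : ∀ r : R, r + r = 0 → r = 0) (a b P Q1 Q2 Q3 : R)
    (ha : a*a = -1) (hb : b*b = -1) (hab : b*a = -(a*b))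
    (aP : a*P = P*a) (bP : b*P = P*b) (aQ1 : a*Q1 = Q1*a) (bQ1 : b*Q1 = -(Q1*b))
    (aQ2 : a*Q2 = -(Q2*a)) (bQ2 : b*Q2 = Q2*b) (aQ3 : a*Q3 = -(Q3*a)) (bQ3 : b*Q3 = -(Q3*b))
    (hs : (P+Q1+Q2+Q3)*(P+Q1+Q2+Q3) = -3)
    (hαβ : ((P+Q1)*a)*((P+Q2)*b) + ((P+Q2)*b)*((P+Q1)*a) = 0)
    (hαγ : ((P+Q1)*a)*((P+Q3)*(a*b)) + ((P+Q3)*(a*b))*((P+Q1)*a) = 0)
    (hβγ : ((P+Q2)*b)*((P+Q3)*(a*b)) + ((P+Q3)*(a*b))*((P+Q2)*b) = 0)
    (hsum : ((P+Q1)*a)*((P+Q1)*a) + ((P+Q2)*b)*((P+Q2)*b) + ((P+Q3)*(a*b))*((P+Q3)*(a*b)) = 5) :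
    Q1*Q2 = 0 ∧ Q2*Q1 = 0 ∧ Q1*Q3 = 0 ∧ Q3*Q1 = 0 ∧ Q2*Q3 = 0 ∧ Q3*Q2 = 0 ∧ P*P = -1 := by
  have ha' : ∀ r : R, a*(a*r) = -r := fun r => by rw [← mul_assoc, ha]; simp
  have hb' : ∀ r : R, b*(b*r) = -r := fun r => by rw [← mul_assoc, hb]; simp
  have hab' : ∀ r : R, b*(a*r) = -(a*(b*r)) := fun r => by rw [← mul_assoc, hab]; simp [mul_assoc]
  have aP' : ∀ r : R, a*(P*r) = P*(a*r) := fun r => by rw [← mul_assoc, aP, mul_assoc]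
  have bP' : ∀ r : R, b*(P*r) = P*(b*r) := fun r => by rw [← mul_assoc, bP, mul_assoc]
  have aQ1' : ∀ r : R, a*(Q1*r) = Q1*(a*r) := fun r => by rw [← mul_assoc, aQ1, mul_assoc]
  have bQ1' : ∀ r : R, b*(Q1*r) = -(Q1*(b*r)) := fun r => by rw [← mul_assoc, bQ1]; simp [mul_assoc]
  have aQ2' : ∀ r : R, a*(Q2*r) = -(Q2*(a*r)) := fun r => by rw [← mul_assoc, aQ2]; simp [mul_assoc]
  have bQ2' : ∀ r : R, b*(Q2*r) = Q2*(b*r) := fun r => by rw [← mul_assoc, bQ2, mul_assoc]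
  have aQ3' : ∀ r : R, a*(Q3*r) = -(Q3*(a*r)) := fun r => by rw [← mul_assoc, aQ3]; simp [mul_assoc]
  have bQ3' : ∀ r : R, b*(Q3*r) = -(Q3*(b*r)) := fun r => by rw [← mul_assoc, bQ3]; simp [mul_assoc]
  have N := And.intro ha <| And.intro ha' <| And.intro hb <| And.intro hb' <| And.intro hab <| And.intro hab' <|
    And.intro aP <| And.intro aP' <| And.intro bP <| And.intro bP' <| And.intro aQ1 <| And.intro aQ1' <|
    And.intro bQ1 <| And.intro bQ1' <| And.intro aQ2 <| And.intro aQ2' <| And.intro bQ2 <| And.intro bQ2' <|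
    And.intro aQ3 <| And.intro aQ3' <| And.intro bQ3 bQ3'
  have canc_a : ∀ r : R, r * a = 0 → r = 0 := fun r h => by
    have : r * a * a = 0 := by rw [h, zero_mul]
    rw [mul_assoc, ha] at this; simpa using this
  have canc_b : ∀ r : R, r * b = 0 → r = 0 := fun r h => by
    have : r * b * b = 0 := by rw [h, zero_mul]
    rw [mul_assoc, hb] at this; simpa using this
  -- E1 : from {α,β} = 0
  have E1 : P*Q1 + Q1*P - (P*Q2 + Q2*P) - (Q1*Q2 - Q2*Q1) = 0 := by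
    apply canc_a; apply canc_b
    rw [← hαβ]
    simp only [mul_add, add_mul, mul_sub, sub_mul, mul_neg, neg_mul, neg_neg, mul_assoc, mul_one, one_mul, N]
    abel
  have E1a : P*Q1 + Q1*P + (P*Q2 + Q2*P) + (Q1*Q2 - Q2*Q1) = 0 := by
    apply canc_a
    have : a * (P*Q1 + Q1*P - (P*Q2 + Q2*P) - (Q1*Q2 - Q2*Q1)) = 0 := by rw [E1, mul_zero]
    rw [← this]
    simp only [mul_add, add_mul, mul_sub, sub_mul, mul_neg, neg_mul, neg_neg, mul_assoc, mul_one, one_mul, N]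
    abel
  have E1b : -(P*Q1 + Q1*P) - (P*Q2 + Q2*P) + (Q1*Q2 - Q2*Q1) = 0 := by
    apply canc_b
    have : b * (P*Q1 + Q1*P - (P*Q2 + Q2*P) - (Q1*Q2 - Q2*Q1)) = 0 := by rw [E1, mul_zero]
    rw [← this]
    simp only [mul_add, add_mul, mul_sub, sub_mul, mul_neg, neg_mul, neg_neg, mul_assoc, mul_one, one_mul, N]
    abel
  have PQ1 : P*Q1 + Q1*P = 0 := by
    apply h2
    have : P*Q1 + Q1*P + (P*Q1 + Q1*P) = (P*Q1 + Q1*P - (P*Q2 + Q2*P) - (Q1*Q2 - Q2*Q1)) +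
      (P*Q1 + Q1*P + (P*Q2 + Q2*P) + (Q1*Q2 - Q2*Q1)) := by abel
    rw [this, E1, E1a, add_zero]
  have PQ2 : P*Q2 + Q2*P = 0 := by
    apply h2
    have : P*Q2 + Q2*P + (P*Q2 + Q2*P) = -((P*Q1 + Q1*P - (P*Q2 + Q2*P) - (Q1*Q2 - Q2*Q1)) +
      (-(P*Q1 + Q1*P) - (P*Q2 + Q2*P) + (Q1*Q2 - Q2*Q1))) := by abel
    rw [this, E1, E1b, add_zero, neg_zero]
  have C12 : Q1*Q2 - Q2*Q1 = 0 := by
    rw [PQ1, PQ2] at E1a; simpa using E1a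
  -- E2 : from {α,γ} = 0
  have E2 : (P*Q3 + Q3*P) - (P*Q1 + Q1*P) + (Q1*Q3 - Q3*Q1) = 0 := by
    apply canc_b
    rw [← hαγ]
    simp only [mul_add, add_mul, mul_sub, sub_mul, mul_neg, neg_mul, neg_neg, mul_assoc, mul_one, one_mul, N]
    abel
  have E2b : -(P*Q3 + Q3*P) + (P*Q1 + Q1*P) + (Q1*Q3 - Q3*Q1) = 0 := by
    apply canc_b
    have : b * ((P*Q3 + Q3*P) - (P*Q1 + Q1*P) + (Q1*Q3 - Q3*Q1)) = 0 := by rw [E2, mul_zero]
    rw [← this]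
    simp only [mul_add, add_mul, mul_sub, sub_mul, mul_neg, neg_mul, neg_neg, mul_assoc, mul_one, one_mul, N]
    abel
  have C13 : Q1*Q3 - Q3*Q1 = 0 := by
    apply h2
    have : Q1*Q3 - Q3*Q1 + (Q1*Q3 - Q3*Q1) = ((P*Q3 + Q3*P) - (P*Q1 + Q1*P) + (Q1*Q3 - Q3*Q1)) +
      (-(P*Q3 + Q3*P) + (P*Q1 + Q1*P) + (Q1*Q3 - Q3*Q1)) := by abel
    rw [this, E2, E2b, add_zero]
  have PQ3 : P*Q3 + Q3*P = 0 := by
    rw [PQ1, C13] at E2; simpa using E2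
  have E3 : (P*Q2 + Q2*P) - (P*Q3 + Q3*P) - (Q2*Q3 - Q3*Q2) = 0 := by
    apply canc_a
    rw [← hβγ]
    simp only [mul_add, add_mul, mul_sub, sub_mul, mul_neg, neg_mul, neg_neg, mul_assoc, mul_one, one_mul, N]
    abel
  have C23 : Q2*Q3 - Q3*Q2 = 0 := by
    have h : Q2*Q3 - Q3*Q2 = -((P*Q2 + Q2*P) - (P*Q3 + Q3*P) - (Q2*Q3 - Q3*Q2)) + (P*Q2 + Q2*P) - (P*Q3 + Q3*P) := by abel
    rw [h, E3, PQ2, PQ3]; simp
  -- s^2
  have S0 : (P*P + Q1*Q1 + Q2*Q2 + Q3*Q3 + 3) + (Q1*Q2 + Q2*Q1) + (Q1*Q3 + Q3*Q1) + (Q2*Q3 + Q3*Q2) = 0 := by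
    have : (P*P + Q1*Q1 + Q2*Q2 + Q3*Q3 + 3) + (Q1*Q2 + Q2*Q1) + (Q1*Q3 + Q3*Q1) + (Q2*Q3 + Q3*Q2) =
      (P+Q1+Q2+Q3)*(P+Q1+Q2+Q3) + 3 - (P*Q1 + Q1*P) - (P*Q2 + Q2*P) - (P*Q3 + Q3*P) := by
      simp only [mul_add, add_mul]; abel
    rw [this, hs, PQ1, PQ2, PQ3]; simp
  have S0a : (P*P + Q1*Q1 + Q2*Q2 + Q3*Q3 + 3) - (Q1*Q2 + Q2*Q1) - (Q1*Q3 + Q3*Q1) + (Q2*Q3 + Q3*Q2) = 0 := by
    apply canc_a
    have : a * ((P*P + Q1*Q1 + Q2*Q2 + Q3*Q3 + 3) + (Q1*Q2 + Q2*Q1) + (Q1*Q3 + Q3*Q1) + (Q2*Q3 + Q3*Q2)) = 0 := by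
      rw [S0, mul_zero]
    rw [← this]
    have h3 : a * (3:R) = 3 * a := by
      have : (3:R) = 1 + 1 + 1 := by norm_num
      rw [this]; simp [mul_add, add_mul]
    simp only [mul_add, add_mul, mul_sub, sub_mul, mul_neg, neg_mul, neg_neg, mul_assoc, mul_one, one_mul, N, h3]
    abel
  have S0b : (P*P + Q1*Q1 + Q2*Q2 + Q3*Q3 + 3) - (Q1*Q2 + Q2*Q1) + (Q1*Q3 + Q3*Q1) - (Q2*Q3 + Q3*Q2) = 0 := by
    apply canc_b
    have : b * ((P*P + Q1*Q1 + Q2*Q2 + Q3*Q3 + 3) + (Q1*Q2 + Q2*Q1) + (Q1*Q3 + Q3*Q1) + (Q2*Q3 + Q3*Q2)) = 0 := by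
      rw [S0, mul_zero]
    rw [← this]
    have h3 : b * (3:R) = 3 * b := by
      have : (3:R) = 1 + 1 + 1 := by norm_num
      rw [this]; simp [mul_add, add_mul]
    simp only [mul_add, add_mul, mul_sub, sub_mul, mul_neg, neg_mul, neg_neg, mul_assoc, mul_one, one_mul, N, h3]
    abel
  have S0ab : (P*P + Q1*Q1 + Q2*Q2 + Q3*Q3 + 3) + (Q1*Q2 + Q2*Q1) - (Q1*Q3 + Q3*Q1) - (Q2*Q3 + Q3*Q2) = 0 := by
    apply canc_b
    have : b * ((P*P + Q1*Q1 + Q2*Q2 + Q3*Q3 + 3) - (Q1*Q2 + Q2*Q1) - (Q1*Q3 + Q3*Q1) + (Q2*Q3 + Q3*Q2)) = 0 := by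
      rw [S0a, mul_zero]
    rw [← this]
    have h3 : b * (3:R) = 3 * b := by
      have : (3:R) = 1 + 1 + 1 := by norm_num
      rw [this]; simp [mul_add, add_mul]
    simp only [mul_add, add_mul, mul_sub, sub_mul, mul_neg, neg_mul, neg_neg, mul_assoc, mul_one, one_mul, N, h3]
    abel
  have A12 : Q1*Q2 + Q2*Q1 = 0 := by
    apply h2; apply h2
    have : Q1*Q2 + Q2*Q1 + (Q1*Q2 + Q2*Q1) + (Q1*Q2 + Q2*Q1 + (Q1*Q2 + Q2*Q1)) =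
      ((P*P + Q1*Q1 + Q2*Q2 + Q3*Q3 + 3) + (Q1*Q2 + Q2*Q1) + (Q1*Q3 + Q3*Q1) + (Q2*Q3 + Q3*Q2))
      - ((P*P + Q1*Q1 + Q2*Q2 + Q3*Q3 + 3) - (Q1*Q2 + Q2*Q1) - (Q1*Q3 + Q3*Q1) + (Q2*Q3 + Q3*Q2))
      - ((P*P + Q1*Q1 + Q2*Q2 + Q3*Q3 + 3) - (Q1*Q2 + Q2*Q1) + (Q1*Q3 + Q3*Q1) - (Q2*Q3 + Q3*Q2))
      + ((P*P + Q1*Q1 + Q2*Q2 + Q3*Q3 + 3) + (Q1*Q2 + Q2*Q1) - (Q1*Q3 + Q3*Q1) - (Q2*Q3 + Q3*Q2)) := by abel
    rw [this, S0, S0a, S0b, S0ab]; simp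
  have A13 : Q1*Q3 + Q3*Q1 = 0 := by
    apply h2; apply h2
    have : Q1*Q3 + Q3*Q1 + (Q1*Q3 + Q3*Q1) + (Q1*Q3 + Q3*Q1 + (Q1*Q3 + Q3*Q1)) =
      ((P*P + Q1*Q1 + Q2*Q2 + Q3*Q3 + 3) + (Q1*Q2 + Q2*Q1) + (Q1*Q3 + Q3*Q1) + (Q2*Q3 + Q3*Q2))
      - ((P*P + Q1*Q1 + Q2*Q2 + Q3*Q3 + 3) - (Q1*Q2 + Q2*Q1) - (Q1*Q3 + Q3*Q1) + (Q2*Q3 + Q3*Q2))
      + ((P*P + Q1*Q1 + Q2*Q2 + Q3*Q3 + 3) - (Q1*Q2 + Q2*Q1) + (Q1*Q3 + Q3*Q1) - (Q2*Q3 + Q3*Q2))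
      - ((P*P + Q1*Q1 + Q2*Q2 + Q3*Q3 + 3) + (Q1*Q2 + Q2*Q1) - (Q1*Q3 + Q3*Q1) - (Q2*Q3 + Q3*Q2)) := by abel
    rw [this, S0, S0a, S0b, S0ab]; simp
  have A23 : Q2*Q3 + Q3*Q2 = 0 := by
    apply h2; apply h2
    have : Q2*Q3 + Q3*Q2 + (Q2*Q3 + Q3*Q2) + (Q2*Q3 + Q3*Q2 + (Q2*Q3 + Q3*Q2)) =
      ((P*P + Q1*Q1 + Q2*Q2 + Q3*Q3 + 3) + (Q1*Q2 + Q2*Q1) + (Q1*Q3 + Q3*Q1) + (Q2*Q3 + Q3*Q2))
      + ((P*P + Q1*Q1 + Q2*Q2 + Q3*Q3 + 3) - (Q1*Q2 + Q2*Q1) - (Q1*Q3 + Q3*Q1) + (Q2*Q3 + Q3*Q2))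
      - ((P*P + Q1*Q1 + Q2*Q2 + Q3*Q3 + 3) - (Q1*Q2 + Q2*Q1) + (Q1*Q3 + Q3*Q1) - (Q2*Q3 + Q3*Q2))
      - ((P*P + Q1*Q1 + Q2*Q2 + Q3*Q3 + 3) + (Q1*Q2 + Q2*Q1) - (Q1*Q3 + Q3*Q1) - (Q2*Q3 + Q3*Q2)) := by abel
    rw [this, S0, S0a, S0b, S0ab]; simp
  have D0 : P*P + Q1*Q1 + Q2*Q2 + Q3*Q3 + 3 = 0 := by
    rw [A12, A13, A23] at S0; simpa using S0
  have z12 : Q1*Q2 = 0 := by
    apply h2
    have : Q1*Q2 + Q1*Q2 = (Q1*Q2 + Q2*Q1) + (Q1*Q2 - Q2*Q1) := by abel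
    rw [this, A12, C12, add_zero]
  have z21 : Q2*Q1 = 0 := by rw [z12] at A12; simpa using A12
  have z13 : Q1*Q3 = 0 := by
    apply h2
    have : Q1*Q3 + Q1*Q3 = (Q1*Q3 + Q3*Q1) + (Q1*Q3 - Q3*Q1) := by abel
    rw [this, A13, C13, add_zero]
  have z31 : Q3*Q1 = 0 := by rw [z13] at A13; simpa using A13
  have z23 : Q2*Q3 = 0 := by
    apply h2
    have : Q2*Q3 + Q2*Q3 = (Q2*Q3 + Q3*Q2) + (Q2*Q3 - Q3*Q2) := by abel
    rw [this, A23, C23, add_zero]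
  have z32 : Q3*Q2 = 0 := by rw [z23] at A23; simpa using A23
  refine ⟨z12, z21, z13, z31, z23, z32, ?_⟩
  -- sum of squares
  have hsum' : -(P*P + P*P + P*P + Q1*Q1 + Q2*Q2 + Q3*Q3) - (P*Q1 + Q1*P) - (P*Q2 + Q2*P) - (P*Q3 + Q3*P) = 5 := by
    rw [← hsum]
    simp only [mul_add, add_mul, mul_sub, sub_mul, mul_neg, neg_mul, neg_neg, mul_assoc, mul_one, one_mul, N]
    abel
  rw [PQ1, PQ2, PQ3] at hsum'
  have : (P*P + 1) + (P*P + 1) = 0 := by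
    have e : (P*P + 1) + (P*P + 1) = (P*P + Q1*Q1 + Q2*Q2 + Q3*Q3 + 3) - (-(P*P + P*P + P*P + Q1*Q1 + Q2*Q2 + Q3*Q3) - 0 - 0 - 0) - (P*P + Q1*Q1 + Q2*Q2 + Q3*Q3 + 3) - (P*P + Q1*Q1 + Q2*Q2 + Q3*Q3 + 3) + 5 := by
      have : (5:R) = 1+1+1+1+1 := by norm_num
      have h3 : (3:R) = 1+1+1 := by norm_num
      rw [this, h3]; abel
    rw [e, hsum', D0]; simp
  have := h2 _ this
  exact eq_neg_of_add_eq_zero_left this

theorem no_two_torsion {K : Type*} [Field K] [Algebra K R] (h2 : (2:K) ≠ 0) (r : R) (h : r + r = 0) : r = 0 := by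
  have : (2:K) • r = 0 := by rw [two_smul, h]
  exact (smul_eq_zero.mp this).resolve_left h2

theorem star_alg {K : Type*} [Field K] [Algebra K R] (h2K : (2:K) ≠ 0) (a b s : R)
    (ha : a*a = -1) (hb : b*b = -1) (hab : b*a = -(a*b)) (hs : s*s = -3)
    (h1 : (s*(a+b+a*b) + (a+b+a*b)*s)*(s*(a+b+a*b) + (a+b+a*b)*s) = 20)
    (h2 : (s*(a-b-a*b) + (a-b-a*b)*s)*(s*(a-b-a*b) + (a-b-a*b)*s) = 20)
    (h3 : (s*(-a+b-a*b) + (-a+b-a*b)*s)*(s*(-a+b-a*b) + (-a+b-a*b)*s) = 20)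
    (h4 : (s*(-a-b+a*b) + (-a-b+a*b)*s)*(s*(-a-b+a*b) + (-a-b+a*b)*s) = 20) :
    (s*a - a*s) * (s*b - b*s) * (s*(a*b) - (a*b)*s) = 0 ∧ (s*a = a*s → (s*b+b*s)*(s*b+b*s) = 4) ∧
      (s*b = b*s → (s*a+a*s)*(s*a+a*s) = 4) ∧ (s*(a*b) = (a*b)*s → (s*a+a*s)*(s*a+a*s) = 4) := by
  have t2 := no_two_torsion (R := R) h2K
  obtain ⟨P, Q1, Q2, Q3, rfl, aP, bP, aQ1, bQ1, aQ2, bQ2, aQ3, bQ3⟩ := grading h2K a b s ha hb hab
  have ha' : ∀ r : R, a*(a*r) = -r := fun r => by rw [← mul_assoc, ha]; simp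
  have hb' : ∀ r : R, b*(b*r) = -r := fun r => by rw [← mul_assoc, hb]; simp
  have hab' : ∀ r : R, b*(a*r) = -(a*(b*r)) := fun r => by rw [← mul_assoc, hab]; simp [mul_assoc]
  have aP' : ∀ r : R, a*(P*r) = P*(a*r) := fun r => by rw [← mul_assoc, aP, mul_assoc]
  have bP' : ∀ r : R, b*(P*r) = P*(b*r) := fun r => by rw [← mul_assoc, bP, mul_assoc]
  have aQ1' : ∀ r : R, a*(Q1*r) = Q1*(a*r) := fun r => by rw [← mul_assoc, aQ1, mul_assoc]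
  have bQ1' : ∀ r : R, b*(Q1*r) = -(Q1*(b*r)) := fun r => by rw [← mul_assoc, bQ1]; simp [mul_assoc]
  have aQ2' : ∀ r : R, a*(Q2*r) = -(Q2*(a*r)) := fun r => by rw [← mul_assoc, aQ2]; simp [mul_assoc]
  have bQ2' : ∀ r : R, b*(Q2*r) = Q2*(b*r) := fun r => by rw [← mul_assoc, bQ2, mul_assoc]
  have aQ3' : ∀ r : R, a*(Q3*r) = -(Q3*(a*r)) := fun r => by rw [← mul_assoc, aQ3]; simp [mul_assoc]
  have bQ3' : ∀ r : R, b*(Q3*r) = -(Q3*(b*r)) := fun r => by rw [← mul_assoc, bQ3]; simp [mul_assoc]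
  have N := And.intro ha <| And.intro ha' <| And.intro hb <| And.intro hb' <| And.intro hab <| And.intro hab' <|
    And.intro aP <| And.intro aP' <| And.intro bP <| And.intro bP' <| And.intro aQ1 <| And.intro aQ1' <|
    And.intro bQ1 <| And.intro bQ1' <| And.intro aQ2 <| And.intro aQ2' <| And.intro bQ2 <| And.intro bQ2' <|
    And.intro aQ3 <| And.intro aQ3' <| And.intro bQ3 bQ3'
  set α := (P+Q1)*a with hα
  set β := (P+Q2)*b with hβ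
  set γ := (P+Q3)*(a*b) with hγ
  have eα : (P+Q1+Q2+Q3)*a + a*(P+Q1+Q2+Q3) = α + α := by
    rw [hα]
    simp only [mul_add, add_mul, mul_sub, sub_mul, mul_neg, neg_mul, neg_neg, mul_assoc, mul_one, one_mul, N]
    abel
  have eβ : (P+Q1+Q2+Q3)*b + b*(P+Q1+Q2+Q3) = β + β := by
    rw [hβ]
    simp only [mul_add, add_mul, mul_sub, sub_mul, mul_neg, neg_mul, neg_neg, mul_assoc, mul_one, one_mul, N]
    abel
  have eγ : (P+Q1+Q2+Q3)*(a*b) + (a*b)*(P+Q1+Q2+Q3) = γ + γ := by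
    rw [hγ]
    simp only [mul_add, add_mul, mul_sub, sub_mul, mul_neg, neg_mul, neg_neg, mul_assoc, mul_one, one_mul, N]
    abel
  have quarter : ∀ u : R, (u+u)*(u+u) = 20 → u*u = 5 := by
    intro u hu
    have : (u*u - 5) + (u*u - 5) + ((u*u - 5) + (u*u - 5)) = 0 := by
      have e : (u*u - 5) + (u*u - 5) + ((u*u - 5) + (u*u - 5)) = (u+u)*(u+u) - 20 := by
        have : (20:R) = 5+5+5+5 := by norm_num
        rw [this]; simp only [mul_add, add_mul]; abel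
      rw [e, hu, sub_self]
    exact sub_eq_zero.mp (t2 _ (t2 _ this))
  have u1 : (α+β+γ)*(α+β+γ) = 5 := by
    apply quarter
    rw [← h1]
    have : (P+Q1+Q2+Q3)*(a+b+a*b) + (a+b+a*b)*(P+Q1+Q2+Q3) = (α+β+γ) + (α+β+γ) := by
      have : (P+Q1+Q2+Q3)*(a+b+a*b) + (a+b+a*b)*(P+Q1+Q2+Q3) = ((P+Q1+Q2+Q3)*a + a*(P+Q1+Q2+Q3)) + ((P+Q1+Q2+Q3)*b + b*(P+Q1+Q2+Q3)) + ((P+Q1+Q2+Q3)*(a*b) + (a*b)*(P+Q1+Q2+Q3)) := by
        simp only [mul_add, add_mul]; abel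
      rw [this, eα, eβ, eγ]; abel
    rw [this]
  have u2 : (α-β-γ)*(α-β-γ) = 5 := by
    apply quarter
    rw [← h2]
    have : (P+Q1+Q2+Q3)*(a-b-a*b) + (a-b-a*b)*(P+Q1+Q2+Q3) = (α-β-γ) + (α-β-γ) := by
      have : (P+Q1+Q2+Q3)*(a-b-a*b) + (a-b-a*b)*(P+Q1+Q2+Q3) = ((P+Q1+Q2+Q3)*a + a*(P+Q1+Q2+Q3)) - ((P+Q1+Q2+Q3)*b + b*(P+Q1+Q2+Q3)) - ((P+Q1+Q2+Q3)*(a*b) + (a*b)*(P+Q1+Q2+Q3)) := by
        simp only [mul_add, add_mul, mul_sub, sub_mul]; abel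
      rw [this, eα, eβ, eγ]; abel
    rw [this]
  have u3 : (-α+β-γ)*(-α+β-γ) = 5 := by
    apply quarter
    rw [← h3]
    have : (P+Q1+Q2+Q3)*(-a+b-a*b) + (-a+b-a*b)*(P+Q1+Q2+Q3) = (-α+β-γ) + (-α+β-γ) := by
      have : (P+Q1+Q2+Q3)*(-a+b-a*b) + (-a+b-a*b)*(P+Q1+Q2+Q3) = -((P+Q1+Q2+Q3)*a + a*(P+Q1+Q2+Q3)) + ((P+Q1+Q2+Q3)*b + b*(P+Q1+Q2+Q3)) - ((P+Q1+Q2+Q3)*(a*b) + (a*b)*(P+Q1+Q2+Q3)) := by
        simp only [mul_add, add_mul, mul_sub, sub_mul, mul_neg, neg_mul]; abel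
      rw [this, eα, eβ, eγ]; abel
    rw [this]
  have u4 : (-α-β+γ)*(-α-β+γ) = 5 := by
    apply quarter
    rw [← h4]
    have : (P+Q1+Q2+Q3)*(-a-b+a*b) + (-a-b+a*b)*(P+Q1+Q2+Q3) = (-α-β+γ) + (-α-β+γ) := by
      have : (P+Q1+Q2+Q3)*(-a-b+a*b) + (-a-b+a*b)*(P+Q1+Q2+Q3) = -((P+Q1+Q2+Q3)*a + a*(P+Q1+Q2+Q3)) - ((P+Q1+Q2+Q3)*b + b*(P+Q1+Q2+Q3)) + ((P+Q1+Q2+Q3)*(a*b) + (a*b)*(P+Q1+Q2+Q3)) := by
        simp only [mul_add, add_mul, mul_sub, sub_mul, mul_neg, neg_mul]; abel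
      rw [this, eα, eβ, eγ]; abel
    rw [this]
  have hαβ : α*β + β*α = 0 := by
    apply t2; apply t2
    have : α*β + β*α + (α*β + β*α) + (α*β + β*α + (α*β + β*α)) =
      (α+β+γ)*(α+β+γ) - (α-β-γ)*(α-β-γ) - (-α+β-γ)*(-α+β-γ) + (-α-β+γ)*(-α-β+γ) := by
      simp only [mul_add, add_mul, mul_sub, sub_mul, mul_neg, neg_mul, neg_neg]; abel
    rw [this, u1, u2, u3, u4]; simp
  have hαγ : α*γ + γ*α = 0 := by
    apply t2; apply t2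
    have : α*γ + γ*α + (α*γ + γ*α) + (α*γ + γ*α + (α*γ + γ*α)) =
      (α+β+γ)*(α+β+γ) - (α-β-γ)*(α-β-γ) + (-α+β-γ)*(-α+β-γ) - (-α-β+γ)*(-α-β+γ) := by
      simp only [mul_add, add_mul, mul_sub, sub_mul, mul_neg, neg_mul, neg_neg]; abel
    rw [this, u1, u2, u3, u4]; simp
  have hβγ : β*γ + γ*β = 0 := by
    apply t2; apply t2
    have : β*γ + γ*β + (β*γ + γ*β) + (β*γ + γ*β + (β*γ + γ*β)) =
      (α+β+γ)*(α+β+γ) + (α-β-γ)*(α-β-γ) - (-α+β-γ)*(-α+β-γ) - (-α-β+γ)*(-α-β+γ) := by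
      simp only [mul_add, add_mul, mul_sub, sub_mul, mul_neg, neg_mul, neg_neg]; abel
    rw [this, u1, u2, u3, u4]; simp
  have hsum : α*α + β*β + γ*γ = 5 := by
    have : (α*α + β*β + γ*γ - 5) + (α*α + β*β + γ*γ - 5) + ((α*α + β*β + γ*γ - 5) + (α*α + β*β + γ*γ - 5)) = 0 := by
      have e : (α*α + β*β + γ*γ - 5) + (α*α + β*β + γ*γ - 5) + ((α*α + β*β + γ*γ - 5) + (α*α + β*β + γ*γ - 5)) =
        (α+β+γ)*(α+β+γ) + (α-β-γ)*(α-β-γ) + (-α+β-γ)*(-α+β-γ) + (-α-β+γ)*(-α-β+γ) - 5 - 5 - 5 - 5 := by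
        simp only [mul_add, add_mul, mul_sub, sub_mul, mul_neg, neg_mul, neg_neg]; abel
      rw [e, u1, u2, u3, u4]; abel
    exact sub_eq_zero.mp (t2 _ (t2 _ this))
  obtain ⟨z12, z21, z13, z31, z23, z32, hPP⟩ := star_core t2 a b P Q1 Q2 Q3 ha hb hab aP bP aQ1 bQ1 aQ2 bQ2 aQ3 bQ3 hs
    hαβ hαγ hβγ hsum
  have z12' : ∀ r : R, Q1*(Q2*r) = 0 := fun r => by rw [← mul_assoc, z12, zero_mul]
  have z21' : ∀ r : R, Q2*(Q1*r) = 0 := fun r => by rw [← mul_assoc, z21, zero_mul]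
  have z13' : ∀ r : R, Q1*(Q3*r) = 0 := fun r => by rw [← mul_assoc, z13, zero_mul]
  have z31' : ∀ r : R, Q3*(Q1*r) = 0 := fun r => by rw [← mul_assoc, z31, zero_mul]
  have z23' : ∀ r : R, Q2*(Q3*r) = 0 := fun r => by rw [← mul_assoc, z23, zero_mul]
  have z32' : ∀ r : R, Q3*(Q2*r) = 0 := fun r => by rw [← mul_assoc, z32, zero_mul]
  have canc_a : ∀ r : R, r * a = 0 → r = 0 := fun r h => by
    have : r * a * a = 0 := by rw [h, zero_mul]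
    rw [mul_assoc, ha] at this
    simpa using this
  have canc_b : ∀ r : R, r * b = 0 → r = 0 := fun r h => by
    have : r * b * b = 0 := by rw [h, zero_mul]
    rw [mul_assoc, hb] at this
    simpa using this
  have hPP' : ∀ r : R, P*(P*r) = -r := fun r => by rw [← mul_assoc, hPP]; simp
  refine ⟨?_, ?_, ?_, ?_⟩
  · simp only [mul_add, add_mul, mul_sub, sub_mul, mul_neg, neg_mul, neg_neg, mul_assoc, mul_one, one_mul, N,
      z12, z21, z13, z31, z23, z32, z12', z21', z13', z31', z23', z32', mul_zero, zero_mul, add_zero, zero_add, sub_zero, neg_zero, sub_self]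
    try abel
  rotate_left
  · intro hc
    have e1 : Q1 + Q3 = 0 := by
      apply canc_b
      apply t2
      have : (Q1+Q3)*b + (Q1+Q3)*b = (P+Q1+Q2+Q3)*b - b*(P+Q1+Q2+Q3) := by
        simp only [mul_add, add_mul, mul_sub, sub_mul, mul_neg, neg_mul, neg_neg, mul_assoc, mul_one, one_mul, N]
        abel
      rw [this, hc, sub_self]
    have e2 : Q1 - Q3 = 0 := by
      apply canc_a
      have : (Q1 - Q3)*a = a*(Q1+Q3) := by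
        simp only [mul_add, add_mul, mul_sub, sub_mul, mul_neg, neg_mul, neg_neg, mul_assoc, mul_one, one_mul, N]
        abel
      rw [this, e1, mul_zero]
    have e3 : Q1 = 0 := by
      apply t2
      have : Q1 + Q1 = (Q1+Q3) + (Q1-Q3) := by abel
      rw [this, e1, e2, add_zero]
    rw [eα, hα, e3, add_zero]
    simp only [mul_add, add_mul, mul_sub, sub_mul, mul_neg, neg_mul, neg_neg, mul_assoc, mul_one, one_mul, N, hPP, hPP']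
    norm_num
  · intro hc
    have e1 : Q1 + Q2 = 0 := by
      apply canc_a
      apply canc_b
      apply t2
      have : (Q1+Q2)*a*b + (Q1+Q2)*a*b = (P+Q1+Q2+Q3)*(a*b) - (a*b)*(P+Q1+Q2+Q3) := by
        simp only [mul_add, add_mul, mul_sub, sub_mul, mul_neg, neg_mul, neg_neg, mul_assoc, mul_one, one_mul, N]
        abel
      rw [this, hc, sub_self]
    have e2 : Q1 - Q2 = 0 := by
      apply canc_a
      have : (Q1 - Q2)*a = a*(Q1+Q2) := by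
        simp only [mul_add, add_mul, mul_sub, sub_mul, mul_neg, neg_mul, neg_neg, mul_assoc, mul_one, one_mul, N]
        abel
      rw [this, e1, mul_zero]
    have e3 : Q1 = 0 := by
      apply t2
      have : Q1 + Q1 = (Q1+Q2) + (Q1-Q2) := by abel
      rw [this, e1, e2, add_zero]
    rw [eα, hα, e3, add_zero]
    simp only [mul_add, add_mul, mul_sub, sub_mul, mul_neg, neg_mul, neg_neg, mul_assoc, mul_one, one_mul, N, hPP, hPP']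
    norm_num
  · intro hc
    have e1 : Q2 + Q3 = 0 := by
      apply canc_a
      apply t2
      have : (Q2+Q3)*a + (Q2+Q3)*a = (P+Q1+Q2+Q3)*a - a*(P+Q1+Q2+Q3) := by
        simp only [mul_add, add_mul, mul_sub, sub_mul, mul_neg, neg_mul, neg_neg, mul_assoc, mul_one, one_mul, N]
        abel
      rw [this, hc, sub_self]
    have e2 : Q2 - Q3 = 0 := by
      apply canc_b
      have : (Q2 - Q3)*b = b*(Q2+Q3) := by
        simp only [mul_add, add_mul, mul_sub, sub_mul, mul_neg, neg_mul, neg_neg, mul_assoc, mul_one, one_mul, N]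
        abel
      rw [this, e1, mul_zero]
    have e3 : Q2 = 0 := by
      apply t2
      have : Q2 + Q2 = (Q2+Q3) + (Q2-Q3) := by abel
      rw [this, e1, e2, add_zero]
    rw [eβ, hβ, e3, add_zero]
    simp only [mul_add, add_mul, mul_sub, sub_mul, mul_neg, neg_mul, neg_neg, mul_assoc, mul_one, one_mul, N, hPP, hPP']
    norm_num

end Alg
section Alg2
variable {R : Type*} [Ring R]

theorem seven_alg (s r : R) (hs : s*s = -3) (hr : r*r = -3) (h20 : (s*r+r*s)*(s*r+r*s) = 20) :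
    s*((r+1)*s*(r-1)) + ((r+1)*s*(r-1))*s = 8 := by
  have : s*((r+1)*s*(r-1)) + ((r+1)*s*(r-1))*s =
      (s*r+r*s)*(s*r+r*s) - s*(r*r)*s - r*(s*s)*r + (s*s)*r - r*(s*s) - 2*(s*s) := by noncomm_ring
  rw [this, h20, hr, hs]
  have e1 : s * (-3) * s = 9 := by
    have : s * (-3) * s = -3 * (s*s) := by noncomm_ring
    rw [this, hs]; norm_num
  have e2 : r * (-3) * r = 9 := by
    have : r * (-3) * r = -3 * (r*r) := by noncomm_ring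
    rw [this, hr]; norm_num
  rw [e1, e2]
  have : (-3 : R) * r = r * (-3) := by noncomm_ring
  rw [this]; norm_num

theorem line_alg (X Y : R) (hX : X*X = -1 - X) (hY : Y*Y = -1 - Y) (hYX : Y*X = -1 - X - Y - X*Y) :
    (-(X*Y))*(-(X*Y)) = -1 ∧ (-(Y*X))*(-(Y*X)) = -1 ∧ (-(Y*X))*(-(X*Y)) = -((-(X*Y))*(-(Y*X))) ∧
    X + X + 1 = -(X*Y) + -(Y*X) + (-(X*Y))*(-(Y*X)) ∧
    Y + Y + 1 = -(X*Y) + -(Y*X) - (-(X*Y))*(-(Y*X)) ∧
    (-1-X)*Y*X + (-1-X)*Y*X + 1 = -(-(X*Y)) + -(Y*X) + (-(X*Y))*(-(Y*X)) ∧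
    X*Y*(-1-X) + X*Y*(-1-X) + 1 = -(X*Y) - -(Y*X) + (-(X*Y))*(-(Y*X)) := by
  have hX' : ∀ r : R, X*(X*r) = -r - X*r := fun r => by rw [← mul_assoc, hX]; noncomm_ring
  have hY' : ∀ r : R, Y*(Y*r) = -r - Y*r := fun r => by rw [← mul_assoc, hY]; noncomm_ring
  have hYX' : ∀ r : R, Y*(X*r) = -r - X*r - Y*r - X*(Y*r) := fun r => by rw [← mul_assoc, hYX]; noncomm_ring
  refine ⟨?_, ?_, ?_, ?_, ?_, ?_, ?_⟩ <;>
  · simp only [mul_add, add_mul, mul_sub, sub_mul, mul_neg, neg_mul, neg_neg, mul_assoc, mul_one, one_mul, hX, hX', hY, hY', hYX, hYX', neg_add_rev, neg_sub, sub_neg_eq_add]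
    try abel
end Alg2

section Alg3
variable {R : Type*} [Ring R]

theorem pure_alg {K : Type*} [Field K] [Algebra K R] (h2 : (2:K) ≠ 0) (a b s : R) (α β γ : K)
    (ha : a*a = -1) (hb : b*b = -1) (hab : b*a = -(a*b))
    (h1 : s*a + a*s = α • 1) (h2' : s*b + b*s = β • 1) (h3 : s*(a*b) + (a*b)*s = γ • 1) :
    s + s = -(α • a + β • b + γ • (a*b)) := by
  have t2 : ∀ r : R, r + r = 0 → r = 0 := fun r h => by
    have : (2:K) • r = 0 := by rw [two_smul, h]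
    exact (smul_eq_zero.mp this).resolve_left h2
  have ha' : ∀ r : R, a*(a*r) = -r := fun r => by rw [← mul_assoc, ha]; simp
  have hb' : ∀ r : R, b*(b*r) = -r := fun r => by rw [← mul_assoc, hb]; simp
  have hab' : ∀ r : R, b*(a*r) = -(a*(b*r)) := fun r => by rw [← mul_assoc, hab]; simp [mul_assoc]
  set s' := s + s + (α • a + β • b + γ • (a*b)) with hs'
  have A1 : s'*a + a*s' = 0 := by
    have : s'*a + a*s' = (s*a + a*s) + (s*a + a*s) + ((α • a + β • b + γ • (a*b))*a + a*(α • a + β • b + γ • (a*b))) := by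
      rw [hs']; noncomm_ring
    rw [this, h1]
    simp only [mul_add, add_mul, smul_mul_assoc, mul_smul_comm, mul_assoc, ha, ha', hab, hab', hb, hb', mul_neg, smul_neg]
    module
  have A2 : s'*b + b*s' = 0 := by
    have : s'*b + b*s' = (s*b + b*s) + (s*b + b*s) + ((α • a + β • b + γ • (a*b))*b + b*(α • a + β • b + γ • (a*b))) := by
      rw [hs']; noncomm_ring
    rw [this, h2']
    simp only [mul_add, add_mul, smul_mul_assoc, mul_smul_comm, mul_assoc, ha, ha', hab, hab', hb, hb', mul_neg, smul_neg]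
    module
  have A3 : s'*(a*b) + (a*b)*s' = 0 := by
    have : s'*(a*b) + (a*b)*s' = (s*(a*b) + (a*b)*s) + (s*(a*b) + (a*b)*s) + ((α • a + β • b + γ • (a*b))*(a*b) + (a*b)*(α • a + β • b + γ • (a*b))) := by
      rw [hs']; noncomm_ring
    rw [this, h3]
    simp only [mul_add, add_mul, smul_mul_assoc, mul_smul_comm, mul_assoc, ha, ha', hab, hab', hb, hb', mul_neg, smul_neg, neg_neg]
    module
  have B1 : s'*a = -(a*s') := eq_neg_of_add_eq_zero_left A1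
  have B2 : s'*b = -(b*s') := eq_neg_of_add_eq_zero_left A2
  have B3 : s'*(a*b) = (a*b)*s' := by
    rw [← mul_assoc, B1, neg_mul, mul_assoc, B2, mul_neg, neg_neg, mul_assoc]
  have B4 : (a*b)*s' = 0 := by
    apply t2
    rw [B3] at A3; exact A3
  have B5 : s' = 0 := by
    have : b*(a*((a*b)*s')) = 0 := by rw [B4]; simp
    simp only [mul_assoc, ha', hb', neg_neg, mul_neg] at this
    exact this
  rw [hs'] at B5
  exact eq_neg_of_add_eq_zero_left B5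

theorem P1_alg {K : Type*} [Field K] [Algebra K R] [Nontrivial R] (h2 : (2:K) ≠ 0) (a b s : R)
    (ha : a*a = -1) (hb : b*b = -1) (hab : b*a = -(a*b)) (hs : s*s = -3) (k0 k1 k2 k3 : K)
    (h0 : s*(a+b+a*b) + (a+b+a*b)*s = k0 • 1)
    (h1 : s*(a-b-a*b) + (a-b-a*b)*s = k1 • 1)
    (h2' : s*(-a+b-a*b) + (-a+b-a*b)*s = k2 • 1)
    (h3 : s*(-a-b+a*b) + (-a-b+a*b)*s = k3 • 1) :
    k0^2 + k1^2 + k2^2 + k3^2 = 48 := by
  have t2 : ∀ r : R, r + r = 0 → r = 0 := fun r h => by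
    have : (2:K) • r = 0 := by rw [two_smul, h]
    exact (smul_eq_zero.mp this).resolve_left h2
  have inj : ∀ k l : K, k • (1:R) = l • 1 → k = l := fun k l h =>
    smul_left_injective K (one_ne_zero (α := R)) h
  have ha' : ∀ r : R, a*(a*r) = -r := fun r => by rw [← mul_assoc, ha]; simp
  have hb' : ∀ r : R, b*(b*r) = -r := fun r => by rw [← mul_assoc, hb]; simp
  have hab' : ∀ r : R, b*(a*r) = -(a*(b*r)) := fun r => by rw [← mul_assoc, hab]; simp [mul_assoc]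
  have half : ∀ (u : R) (k : K), u + u = k • 1 → u = (k/2) • 1 := by
    intro u k h
    have : (2:K) • u = (2:K) • ((k/2) • (1:R)) := by
      rw [two_smul, h, smul_smul, mul_div_cancel₀ _ h2]
    exact smul_right_injective R h2 this
  have hα : s*a + a*s = ((k0+k1)/2) • 1 := by
    apply half
    rw [add_smul, ← h0, ← h1]; noncomm_ring
  have hβ : s*b + b*s = ((k0+k2)/2) • 1 := by
    apply half
    rw [add_smul, ← h0, ← h2']; noncomm_ring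
  have hγ : s*(a*b) + (a*b)*s = ((k0+k3)/2) • 1 := by
    apply half
    rw [add_smul, ← h0, ← h3]; noncomm_ring
  have hp := pure_alg h2 a b s _ _ _ ha hb hab hα hβ hγ
  have hsum : k0 + k1 + k2 + k3 = 0 := by
    apply inj
    rw [add_smul, add_smul, add_smul, ← h0, ← h1, ← h2', ← h3, zero_smul]; noncomm_ring
  set α := (k0+k1)/2 with hαd
  set β := (k0+k2)/2 with hβd
  set γ := (k0+k3)/2 with hγd
  have hsq : (s+s)*(s+s) = (-(α^2+β^2+γ^2)) • 1 := by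
    rw [hp]
    simp only [mul_add, add_mul, smul_mul_assoc, mul_smul_comm, mul_assoc, ha, ha', hab, hab', hb, hb', mul_neg, neg_mul, smul_neg, neg_neg]
    module
  have hsq2 : (s+s)*(s+s) = (-12 : K) • 1 := by
    have : (s+s)*(s+s) = 4 * (s*s) := by noncomm_ring
    rw [this, hs]
    have : (-12 : K) • (1:R) = -12 := by
      rw [neg_smul, ofNat_smul_eq_nsmul]; simp
    rw [this]; norm_num
  have h12 : α^2+β^2+γ^2 = 12 := by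
    have := inj _ _ (hsq.symm.trans hsq2)
    linear_combination -this
  have hk3 : k3 = -(k0+k1+k2) := by linear_combination hsum
  rw [hαd, hβd, hγd] at h12
  field_simp at h12
  rw [hk3] at h12 ⊢
  linear_combination h12
end Alg3

end Cfsg.Agent.Lib.Helper61.Zass
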