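import Mathlib
import Cfsg.Agent.Lib.Helper61.ZassAlg

set_option autoImplicit false
set_option linter.unusedSimpArgs false
set_option linter.unusedSectionVars false

namespace Cfsg.Agent.Lib.Helper61.Zass

section Rep
variable {K V H : Type*} [Field K] [AddCommGroup V] [Module K V] [Nontrivial V] [Group H]
  (ρ : H →* Module.End K V)

theorem eq_zero_of_inj_mul {A B : Module.End K V} (hA : Function.Injective A) (h : A * B = 0) :
    B = 0 := by
  ext v
  apply hA
  have := congrArg (fun f : Module.End K V => f v) h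
  simpa using this

theorem not_inj_of_sq_zero {A : Module.End K V} (h : A * A = 0) : ¬ Function.Injective A := by
  intro hA
  have h0 := eq_zero_of_inj_mul hA h
  obtain ⟨v, hv⟩ := exists_ne (0 : V)
  apply hv
  apply hA
  rw [h0]; simp

theorem rho_mul_inv (g : H) : ρ g * ρ g⁻¹ = 1 := by rw [← map_mul, mul_inv_cancel, map_one]
theorem rho_inv_mul (g : H) : ρ g⁻¹ * ρ g = 1 := by rw [← map_mul, inv_mul_cancel, map_one]

variable (hfree : ∀ g : H, g ≠ 1 → ∀ v : V, ρ g v = v → v = 0)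
include hfree

theorem sub_injective {g h : H} (hgh : g ≠ h) : Function.Injective (ρ g - ρ h) := by
  rw [injective_iff_map_eq_zero]
  intro v hv
  have h1 : ρ g v = ρ h v := by simpa [sub_eq_zero] using hv
  have h2 : ρ (h⁻¹ * g) v = v := by
    rw [map_mul, Module.End.mul_apply, h1, ← Module.End.mul_apply, ← map_mul, inv_mul_cancel, map_one,
      Module.End.one_apply]
  exact hfree _ (fun h3 => hgh (by rw [inv_mul_eq_one] at h3; exact h3.symm)) v h2

theorem rho_injective : Function.Injective ρ := by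
  intro g h hgh
  by_contra hne
  have := sub_injective ρ hfree hne
  rw [hgh, sub_self] at this
  obtain ⟨v, hv⟩ := exists_ne (0 : V)
  exact hv (this (by simp))

theorem rho_order2 {z : H} (hz : orderOf z = 2) : ρ z = -1 := by
  have hz1 : z ≠ 1 := by
    rintro rfl; simp at hz
  have hzz : ρ z * ρ z = 1 := by
    rw [← map_mul, ← pow_two, ← hz, pow_orderOf_eq_one, map_one]
  have h1 : (ρ z - ρ 1) * (ρ z + 1) = 0 := by
    rw [map_one]
    have : (ρ z - 1) * (ρ z + 1) = ρ z * ρ z - 1 := by noncomm_ring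
    rw [this, hzz, sub_self]
  exact eq_neg_of_add_eq_zero_left (eq_zero_of_inj_mul (sub_injective ρ hfree hz1) h1)

theorem two_ne_zero_of_order2 {z : H} (hz : orderOf z = 2) : (2 : K) ≠ 0 := by
  intro h2
  have hz1 : z ≠ 1 := by
    rintro rfl; simp at hz
  apply hz1
  apply rho_injective ρ hfree
  rw [rho_order2 ρ hfree hz, map_one]
  have : (2 : K) • (1 : Module.End K V) = 0 := by rw [h2, zero_smul]
  rw [two_smul] at this
  exact (eq_neg_of_add_eq_zero_left this).symm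

theorem rho_order3 {x : H} (hx : orderOf x = 3) : ρ x * ρ x = -1 - ρ x := by
  have hx1 : x ≠ 1 := by
    rintro rfl; simp at hx
  have hxx : ρ x * ρ x * ρ x = 1 := by
    rw [← map_mul, ← map_mul, ← pow_two, ← pow_succ, show 2 + 1 = orderOf x from hx.symm, pow_orderOf_eq_one, map_one]
  have h1 : (ρ x - ρ 1) * (ρ x * ρ x + ρ x + 1) = 0 := by
    rw [map_one]
    have : (ρ x - 1) * (ρ x * ρ x + ρ x + 1) = ρ x * ρ x * ρ x - 1 := by noncomm_ring
    rw [this, hxx, sub_self]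
  have := eq_zero_of_inj_mul (sub_injective ρ hfree hx1) h1
  have e : ρ x * ρ x = (ρ x * ρ x + ρ x + 1) + (-1 - ρ x) := by abel
  rw [e, this, zero_add]

theorem rho_inv_order3 {x : H} (hx : orderOf x = 3) : ρ x⁻¹ = -1 - ρ x := by
  rw [← rho_order3 ρ hfree hx, ← map_mul]
  congr 1
  have : x * x * x = 1 := by rw [← pow_two, ← pow_succ, show 2 + 1 = orderOf x from hx.symm, pow_orderOf_eq_one]
  exact inv_eq_of_mul_eq_one_left this

theorem rho_order4 {g : H} (hg : orderOf g = 4) : ρ g * ρ g = -1 := by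
  rw [← map_mul, ← pow_two]
  apply rho_order2 ρ hfree
  rw [orderOf_pow' g (by norm_num), hg]; norm_num

theorem order4_of (h2 : (2 : K) ≠ 0) {g : H} (hg : ρ g * ρ g = -1) : orderOf g = 4 := by
  have : orderOf g = 2 ^ (1 + 1) := by
    apply orderOf_eq_prime_pow
    · intro h
      have h1 : ρ (g ^ 2 ^ 1) = 1 := by rw [h, map_one]
      rw [pow_one, pow_two, map_mul, hg] at h1
      have h3 : (2 : K) • (1 : Module.End K V) = 0 := by
        rw [two_smul]
        nth_rewrite 1 [← h1]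
        simp
      exact one_ne_zero ((smul_eq_zero.mp h3).resolve_left h2)
    · apply rho_injective ρ hfree
      have : g ^ 2 ^ (1 + 1) = (g * g) * (g * g) := by
        norm_num
        rw [show (4 : ℕ) = 2 + 2 from rfl, pow_add, pow_two]
      rw [this, map_mul, map_mul, hg, map_one]; simp
  simpa using this

theorem rho_inv_order4 {g : H} (hg : ρ g * ρ g = -1) : ρ g⁻¹ = - ρ g := by
  have h1 : ρ g⁻¹ * (ρ g * ρ g) = ρ g := by rw [← mul_assoc, rho_inv_mul, one_mul]
  rw [hg] at h1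
  rw [← h1]; simp

theorem rho_order10 {g : H} (hg : orderOf g = 10) :
    (ρ g + ρ g⁻¹) * (ρ g + ρ g⁻¹) = (ρ g + ρ g⁻¹) + 1 := by
  have h5 : orderOf (g ^ 5) = 2 := by
    rw [orderOf_pow' g (by norm_num), hg]; norm_num
  have hne : g ≠ g ^ 5 := by
    intro h
    rw [← h] at h5
    omega
  have e5 := rho_order2 ρ hfree h5
  set U := ρ g with hU
  set Ui := ρ g⁻¹ with hUi
  have c1 : U * Ui = 1 := rho_mul_inv ρ g
  have c2 : Ui * U = 1 := rho_inv_mul ρ g
  have e5' : U * U * U * U * U = -1 := by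
    rw [← e5, hU, ← map_mul, ← map_mul, ← map_mul, ← map_mul]
    congr 1
    simp [pow_succ]
  have h1 : (U - ρ (g ^ 5)) * (U*U*U*U - U*U*U + U*U - U + 1) = 0 := by
    rw [e5]
    have : (U - -1) * (U*U*U*U - U*U*U + U*U - U + 1) = U * U * U * U * U + 1 := by noncomm_ring
    rw [this, e5']; simp
  have h2 := eq_zero_of_inj_mul (sub_injective ρ hfree hne) h1
  have c2' : ∀ r, Ui * (U * r) = r := fun r => by rw [← mul_assoc, c2, one_mul]
  have h3 : Ui * Ui * (U*U*U*U - U*U*U + U*U - U + 1) = (U + Ui) * (U + Ui) - (U + Ui) - 1 := by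
    simp only [mul_add, add_mul, mul_sub, sub_mul, mul_assoc, c1, c2, c2', mul_one, one_mul]
    abel
  rw [h2, mul_zero] at h3
  have h4 : (U + Ui) * (U + Ui) - ((U + Ui) + 1) = 0 := by rw [h3]; abel
  exact sub_eq_zero.mp h4

end Rep

section Dict
variable {K V H : Type*} [Field K] [AddCommGroup V] [Module K V] [Nontrivial V] [Group H]
  (ρ : H →* Module.End K V)

/-- `2 ρ(x) + 1`, which is `ρ x - ρ x⁻¹` for `x` of order three. -/
def Sop (x : H) : Module.End K V := ρ x + ρ x + 1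

/-- anticommutator of the `Sop`s -/
def Aop (x y : H) : Module.End K V := Sop ρ x * Sop ρ y + Sop ρ y * Sop ρ x

theorem Aop_comm (x y : H) : Aop ρ x y = Aop ρ y x := by
  unfold Aop; abel

theorem Sop_conj (g x : H) : Sop ρ (g * x * g⁻¹) = ρ g * Sop ρ x * ρ g⁻¹ := by
  unfold Sop
  rw [map_mul, map_mul]
  have : ρ g * (ρ x + ρ x + 1) * ρ g⁻¹ = ρ g * ρ x * ρ g⁻¹ + ρ g * ρ x * ρ g⁻¹ + ρ g * ρ g⁻¹ := by
    noncomm_ring
  rw [this, rho_mul_inv]

theorem Aop_conj (g x y : H) :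
    Aop ρ (g * x * g⁻¹) (g * y * g⁻¹) = ρ g * Aop ρ x y * ρ g⁻¹ := by
  unfold Aop
  rw [Sop_conj, Sop_conj]
  have c : ∀ r, ρ g⁻¹ * (ρ g * r) = r := fun r => by rw [← mul_assoc, rho_inv_mul, one_mul]
  simp only [mul_add, add_mul, mul_assoc, c]

theorem smul_inj_of_ne {k : K} (hk : k ≠ 0) {A : Module.End K V} (h : k • A = 0) : A = 0 :=
  (smul_eq_zero.mp h).resolve_left hk

variable (hfree : ∀ g : H, g ≠ 1 → ∀ v : V, ρ g v = v → v = 0)
include hfree

theorem Sop_sq {x : H} (hx : orderOf x = 3) : Sop ρ x * Sop ρ x = -3 := by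
  unfold Sop
  have h := rho_order3 ρ hfree hx
  have : (ρ x + ρ x + 1) * (ρ x + ρ x + 1) = 4 * (ρ x * ρ x) + 4 * ρ x + 1 := by noncomm_ring
  rw [this, h, show (3 : Module.End K V) = 1 + 1 + 1 by norm_num]; noncomm_ring

theorem Sop_inv {x : H} (hx : orderOf x = 3) : Sop ρ x⁻¹ = - Sop ρ x := by
  unfold Sop
  rw [rho_inv_order3 ρ hfree hx]; abel

theorem Aop_inv_right (x : H) {y : H} (hy : orderOf y = 3) : Aop ρ x y⁻¹ = - Aop ρ x y := by
  unfold Aop
  rw [Sop_inv ρ hfree hy]; noncomm_ring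

theorem Aop_inv_left {x : H} (y : H) (hx : orderOf x = 3) : Aop ρ x⁻¹ y = - Aop ρ x y := by
  unfold Aop
  rw [Sop_inv ρ hfree hx]; noncomm_ring

theorem Aop_eq {x y : H} (hx : orderOf x = 3) (hy : orderOf y = 3) :
    Aop ρ x y = 4 * (ρ (x * y) + ρ (x * y)⁻¹) - 2 := by
  unfold Aop Sop
  rw [mul_inv_rev, map_mul, map_mul, rho_inv_order3 ρ hfree hx, rho_inv_order3 ρ hfree hy,
    show (2 : Module.End K V) = 1 + 1 by norm_num]
  noncomm_ring

theorem Aop_of_order4 {x y : H} (hx : orderOf x = 3) (hy : orderOf y = 3)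
    (h : orderOf (x * y) = 4) : Aop ρ x y = -2 := by
  rw [Aop_eq ρ hfree hx hy, rho_inv_order4 ρ hfree (rho_order4 ρ hfree h)]
  simp

theorem order4_of_Aop (h2 : (2 : K) ≠ 0) {x y : H} (hx : orderOf x = 3) (hy : orderOf y = 3)
    (h : Aop ρ x y = -2) : orderOf (x * y) = 4 := by
  rw [Aop_eq ρ hfree hx hy] at h
  have h4 : (4 : K) ≠ 0 := by
    have : (4 : K) = 2 * 2 := by norm_num
    rw [this]; exact mul_ne_zero h2 h2
  have h0 : (4 : K) • (ρ (x * y) + ρ (x * y)⁻¹) = 0 := by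
    have e : (4 : K) • (ρ (x * y) + ρ (x * y)⁻¹) = 4 * (ρ (x * y) + ρ (x * y)⁻¹) := by
      rw [ofNat_smul_eq_nsmul, nsmul_eq_mul]; norm_num
    rw [e]
    have : 4 * (ρ (x * y) + ρ (x * y)⁻¹) = (4 * (ρ (x * y) + ρ (x * y)⁻¹) - 2) + 2 := by abel
    rw [this, h]; simp
  have h1 := smul_inj_of_ne h4 h0
  apply order4_of ρ hfree h2
  have h3 : ρ (x * y) * (ρ (x * y) + ρ (x * y)⁻¹) = 0 := by rw [h1, mul_zero]
  rw [mul_add, rho_mul_inv] at h3
  exact eq_neg_of_add_eq_zero_left h3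

theorem Aop_of_order10 {x y : H} (hx : orderOf x = 3) (hy : orderOf y = 3)
    (h : orderOf (x * y) = 10) : Aop ρ x y * Aop ρ x y = 20 := by
  rw [Aop_eq ρ hfree hx hy]
  have h1 := rho_order10 ρ hfree h
  set T := ρ (x * y) + ρ (x * y)⁻¹
  have : (4 * T - 2) * (4 * T - 2) = 16 * (T * T) - 16 * T + 4 := by
    noncomm_ring
    norm_num
  rw [this, h1, mul_add, mul_one]
  have : 16 * T + 16 - 16 * T + 4 = (16 + 4 : Module.End K V) := by abel
  rw [this]; norm_num

theorem col_rule {x y : H} (hx : orderOf x = 3) (hy : orderOf y = 3)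
    (h : orderOf (x * y) = 4) : ρ y * ρ x = -1 - ρ x - ρ y - ρ x * ρ y := by
  have h1 := rho_inv_order4 ρ hfree (rho_order4 ρ hfree h)
  rw [mul_inv_rev, map_mul, map_mul, rho_inv_order3 ρ hfree hx, rho_inv_order3 ρ hfree hy] at h1
  have : ρ y * ρ x = (-1 - ρ y) * (-1 - ρ x) - 1 - ρ x - ρ y := by noncomm_ring
  rw [this, h1]; abel

end Dict
end Cfsg.Agent.Lib.Helper61.Zass
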