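import Mathlib
import Cfsg.Agent.Lib.Helper61.ZassRep

set_option autoImplicit false
set_option linter.unusedSimpArgs false
set_option linter.unusedSectionVars false

namespace Cfsg.Agent.Lib.Helper61.Zass

theorem order_conj {H : Type*} [Group H] (g x : H) : orderOf (g * x * g⁻¹) = orderOf x := by
  simpa using (MulAut.conj g).orderOf_eq x

theorem order_conj' {H : Type*} [Group H] (g x : H) : orderOf (g⁻¹ * x * g) = orderOf x := by
  simpa using (MulAut.conj g⁻¹).orderOf_eq x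

section Geom
variable {K V H : Type*} [Field K] [AddCommGroup V] [Module K V] [Nontrivial V] [Group H]
  (ρ : H →* Module.End K V)
  (hfree : ∀ g : H, g ≠ 1 → ∀ v : V, ρ g v = v → v = 0)
include hfree

theorem two_ne_zero_of_order4 {g : H} (hg : orderOf g = 4) : (2 : K) ≠ 0 := by
  apply two_ne_zero_of_order2 ρ hfree (z := g ^ 2)
  rw [orderOf_pow' g (by norm_num), hg]; norm_num

theorem two_ne_zero_of_order10 {g : H} (hg : orderOf g = 10) : (2 : K) ≠ 0 := by
  apply two_ne_zero_of_order2 ρ hfree (z := g ^ 5)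
  rw [orderOf_pow' g (by norm_num), hg]; norm_num

theorem seven {y v : H} (hy : orderOf y = 3) (hv : orderOf v = 3) (h : orderOf (y * v) = 10) :
    orderOf (y * (v⁻¹ * y * v)) = 4 := by
  have h2 := two_ne_zero_of_order10 ρ hfree h
  have hc : orderOf (v⁻¹ * y * v) = 3 := by rw [order_conj', hy]
  apply order4_of_Aop ρ hfree h2 hy hc
  have hs := Sop_sq ρ hfree hy
  have hr := Sop_sq ρ hfree hv
  have h20 := Aop_of_order10 ρ hfree hy hv h
  have h8 := seven_alg (Sop ρ y) (Sop ρ v) hs hr h20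
  have hS : Sop ρ (v⁻¹ * y * v) = ρ v⁻¹ * Sop ρ y * ρ v := by
    have := Sop_conj ρ v⁻¹ y
    rwa [inv_inv] at this
  have e1 : Sop ρ v + 1 = -(ρ v⁻¹ + ρ v⁻¹) := by
    unfold Sop
    rw [rho_inv_order3 ρ hfree hv]; abel
  have e2 : Sop ρ v - 1 = ρ v + ρ v := by
    unfold Sop; abel
  rw [e1, e2] at h8
  have e3 : -(ρ v⁻¹ + ρ v⁻¹) * Sop ρ y * (ρ v + ρ v) = -(4 * Sop ρ (v⁻¹ * y * v)) := by
    rw [hS]; noncomm_ring
  rw [e3] at h8
  have h4 : (4 : K) ≠ 0 := by
    have : (4 : K) = 2 * 2 := by norm_num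
    rw [this]; exact mul_ne_zero h2 h2
  have e4 : (4 : K) • (Aop ρ y (v⁻¹ * y * v) + 2) = 0 := by
    have e : (4 : K) • (Aop ρ y (v⁻¹ * y * v) + 2) = 4 * (Aop ρ y (v⁻¹ * y * v) + 2) := by
      rw [ofNat_smul_eq_nsmul, nsmul_eq_mul]; norm_num
    rw [e]
    unfold Aop
    have : 4 * (Sop ρ y * Sop ρ (v⁻¹ * y * v) + Sop ρ (v⁻¹ * y * v) * Sop ρ y + 2) =
        -(Sop ρ y * -(4 * Sop ρ (v⁻¹ * y * v)) + -(4 * Sop ρ (v⁻¹ * y * v)) * Sop ρ y) + 8 := by
      rw [show (8 : Module.End K V) = 4 * 2 by norm_num]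
      noncomm_ring
    rw [this, h8]; simp
  exact eq_neg_of_add_eq_zero_left (smul_inj_of_ne h4 e4)

theorem C4core {w w' f : H} (hF : ρ f * ρ f = -1) (h4 : orderOf (w * w') = 4)
    (hw : orderOf w = 3) (hw' : orderOf w' = 3) (c1 : w * f = f * w) (c2 : w' * f = f * w') :
    False := by
  have hU := rho_order4 ρ hfree h4
  have hcomm : ρ (w * w') * ρ f = ρ f * ρ (w * w') := by
    rw [← map_mul, ← map_mul]
    congr 1
    rw [mul_assoc, c2, ← mul_assoc, c1, mul_assoc]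
  have key : w * w' = f ∨ w * w' = f⁻¹ := by
    by_cases h : w * w' = f
    · exact Or.inl h
    · right
      have h0 : (ρ (w * w') - ρ f) * (ρ (w * w') - ρ f⁻¹) = 0 := by
        rw [rho_inv_order4 ρ hfree hF]
        have : (ρ (w * w') - ρ f) * (ρ (w * w') - -ρ f) =
            ρ (w * w') * ρ (w * w') - ρ f * ρ f + (ρ (w * w') * ρ f - ρ f * ρ (w * w')) := by
          noncomm_ring
        rw [this, hU, hF, hcomm]; simp
      have := eq_zero_of_inj_mul (sub_injective ρ hfree h) h0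
      exact rho_injective ρ hfree (sub_eq_zero.mp this)
  have hc : w * (w * w') = (w * w') * w := by
    rcases key with h | h
    · rw [h, c1]
    · rw [h]
      have : f⁻¹ * (w * f) * f⁻¹ = f⁻¹ * (f * w) * f⁻¹ := by rw [c1]
      simpa [mul_assoc] using this.symm
  have hc' : Commute w w' := by
    have : w * (w * w') = w * (w' * w) := by rw [hc, mul_assoc]
    exact mul_left_cancel this
  have h3 : (w * w') ^ 3 = 1 := by
    rw [hc'.mul_pow, ← hw, pow_orderOf_eq_one, hw, ← hw', pow_orderOf_eq_one, one_mul]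
  have := orderOf_dvd_of_pow_eq_one h3
  rw [h4] at this
  omega

variable (hN1 : ∀ x y : H, orderOf x = 3 → orderOf y = 3 →
    y = x ∨ y = x⁻¹ ∨ orderOf (x * y) = 4 ∨ orderOf (x * y⁻¹) = 4 ∨ orderOf (x * y) = 10)
include hN1

theorem C4 {w w' f : H} (hF : ρ f * ρ f = -1)
    (hw : orderOf w = 3) (hw' : orderOf w' = 3) (c1 : w * f = f * w) (c2 : w' * f = f * w') :
    w' = w ∨ w' = w⁻¹ := by
  have c2i : w'⁻¹ * f = f * w'⁻¹ := by
    have : w'⁻¹ * (w' * f) * w'⁻¹ = w'⁻¹ * (f * w') * w'⁻¹ := by rw [c2]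
    simpa [mul_assoc] using this.symm
  rcases hN1 w w' hw hw' with h | h | h | h | h
  · exact Or.inl h
  · exact Or.inr h
  · exact (C4core ρ hfree hF h hw hw' c1 c2).elim
  · exact (C4core ρ hfree hF h hw (by rw [orderOf_inv, hw']) c1 c2i).elim
  · have h7 := seven ρ hfree hw hw' h
    refine (C4core ρ hfree hF h7 hw (by rw [order_conj', hw]) c1 ?_).elim
    calc w'⁻¹ * w * w' * f = w'⁻¹ * w * (w' * f) := by group
      _ = w'⁻¹ * (w * f) * w' := by rw [c2]; group
      _ = (w'⁻¹ * f) * w * w' := by rw [c1]; group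
      _ = f * (w'⁻¹ * w * w') := by rw [c2i]; group

omit hN1 hfree in
theorem natCast_End_ne_zero (n : ℕ) (hn : (n : K) ≠ 0) : (n : Module.End K V) ≠ 0 := by
  intro h
  apply hn
  apply (algebraMap K (Module.End K V)).injective
  rw [map_natCast, h, map_zero]

omit hN1 in
theorem comm_Sop_inj (h2 : (2 : K) ≠ 0) {w f : H} (hne : w * f ≠ f * w) :
    Function.Injective (Sop ρ w * ρ f - ρ f * Sop ρ w) := by
  have : Sop ρ w * ρ f - ρ f * Sop ρ w = (2 : K) • (ρ (w * f) - ρ (f * w)) := by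
    unfold Sop
    rw [map_mul, map_mul, two_smul]; noncomm_ring
  rw [this]
  intro u v huv
  apply sub_injective ρ hfree hne
  simp only [LinearMap.smul_apply] at huv
  exact smul_right_injective V h2 huv

theorem S2 (h2 : (2 : K) ≠ 0) {w f h : H} (hw : orderOf w = 3) (hF : ρ f * ρ f = -1)
    (hG : ρ h * ρ h = -1) (hFG : ρ h * ρ f = -(ρ f * ρ h)) (hc : w * f = f * w)
    (h4 : (Sop ρ w * ρ h + ρ h * Sop ρ w) * (Sop ρ w * ρ h + ρ h * Sop ρ w) = 4) : False := by
  have hconj : h⁻¹ * f * h = f⁻¹ := by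
    apply rho_injective ρ hfree
    rw [map_mul, map_mul, rho_inv_order4 ρ hfree hG, rho_inv_order4 ρ hfree hF, neg_mul, hFG, neg_neg,
      mul_assoc, hG]; simp
  have e1 : h⁻¹ * f = f⁻¹ * h⁻¹ := by rw [← hconj]; group
  have e2 : h * f⁻¹ = f * h := by rw [← hconj]; group
  have e3 : w * f⁻¹ = f⁻¹ * w := by
    have : f⁻¹ * (w * f) * f⁻¹ = f⁻¹ * (f * w) * f⁻¹ := by rw [hc]
    simpa [mul_assoc] using this.symm
  have c2 : (h * w * h⁻¹) * f = f * (h * w * h⁻¹) := by
    calc h * w * h⁻¹ * f = h * w * (h⁻¹ * f) := by group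
      _ = h * (w * f⁻¹) * h⁻¹ := by rw [e1]; group
      _ = (h * f⁻¹) * w * h⁻¹ := by rw [e3]; group
      _ = f * (h * w * h⁻¹) := by rw [e2]; group
  have hs := Sop_sq ρ hfree hw
  have h8 : ((8 : ℕ) : K) ≠ 0 := by
    have : ((8 : ℕ) : K) = 2 ^ 3 := by norm_num
    rw [this]; exact pow_ne_zero _ h2
  have h4' : ((4 : ℕ) : K) ≠ 0 := by
    have : ((4 : ℕ) : K) = 2 ^ 2 := by norm_num
    rw [this]; exact pow_ne_zero _ h2
  rcases C4 ρ hfree hN1 hF hw (by rw [order_conj, hw]) hc c2 with h' | h'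
  · have e : h * w = w * h := by
      have : h * w * h⁻¹ * h = w * h := by rw [h']
      simpa using this
    have eo : ρ h * ρ w = ρ w * ρ h := by rw [← map_mul, ← map_mul, e]
    have es : ρ h * Sop ρ w = Sop ρ w * ρ h := by
      unfold Sop
      rw [mul_add, mul_add, add_mul, add_mul, eo]; simp
    rw [es] at h4
    have : (Sop ρ w * ρ h + Sop ρ w * ρ h) * (Sop ρ w * ρ h + Sop ρ w * ρ h) =
        4 * (Sop ρ w * (ρ h * Sop ρ w) * ρ h) := by noncomm_ring
    rw [this, es] at h4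
    have : 4 * (Sop ρ w * (Sop ρ w * ρ h) * ρ h) = 4 * ((Sop ρ w * Sop ρ w) * (ρ h * ρ h)) := by
      noncomm_ring
    rw [this, hs, hG] at h4
    apply natCast_End_ne_zero (V := V) 8 h8
    have : ((8 : ℕ) : Module.End K V) = 4 * (-3 * -1) - 4 := by norm_num
    rw [this, h4, sub_self]
  · have e : h * w = w⁻¹ * h := by
      have : h * w * h⁻¹ * h = w⁻¹ * h := by rw [h']
      simpa using this
    have eo : ρ h * ρ w = (-1 - ρ w) * ρ h := by
      rw [← rho_inv_order3 ρ hfree hw, ← map_mul, ← map_mul, e]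
    have es : ρ h * Sop ρ w = -(Sop ρ w * ρ h) := by
      unfold Sop
      rw [mul_add, mul_add, eo]; noncomm_ring
    rw [es] at h4
    apply natCast_End_ne_zero (V := V) 4 h4'
    have : ((4 : ℕ) : Module.End K V) = 4 := by norm_num
    rw [this, ← h4]; simp

theorem Star {x y w : H} (hx : orderOf x = 3) (hy : orderOf y = 3) (hw : orderOf w = 3)
    (hxy : orderOf (x * y) = 4) (n1 : orderOf (w * x) = 10) (n2 : orderOf (w * y) = 10)
    (n3 : orderOf (w * (x⁻¹ * y * x)) = 10) (n4 : orderOf (w * (x * y * x⁻¹)) = 10) : False := by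
  have h2K := two_ne_zero_of_order4 ρ hfree hxy
  have hX := rho_order3 ρ hfree hx
  have hY := rho_order3 ρ hfree hy
  have hYX := col_rule ρ hfree hx hy hxy
  obtain ⟨la, lb, lab, lSx, lSy, lS1, lS2⟩ := line_alg (ρ x) (ρ y) hX hY hYX
  have hs := Sop_sq ρ hfree hw
  have a1 := Aop_of_order10 ρ hfree hw hx n1
  have a2 := Aop_of_order10 ρ hfree hw hy n2
  have a3 := Aop_of_order10 ρ hfree hw (by rw [order_conj', hy]) n3
  have a4 := Aop_of_order10 ρ hfree hw (by rw [order_conj, hy]) n4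
  have eSx : Sop ρ x = -(ρ x * ρ y) + -(ρ y * ρ x) + -(ρ x * ρ y) * -(ρ y * ρ x) := lSx
  have eSy : Sop ρ y = -(ρ x * ρ y) + -(ρ y * ρ x) - -(ρ x * ρ y) * -(ρ y * ρ x) := lSy
  have eS1 : Sop ρ (x⁻¹ * y * x) = - -(ρ x * ρ y) + -(ρ y * ρ x) + -(ρ x * ρ y) * -(ρ y * ρ x) := by
    rw [← lS1]; unfold Sop
    rw [map_mul, map_mul, rho_inv_order3 ρ hfree hx]
  have eS2 : Sop ρ (x * y * x⁻¹) = -(ρ x * ρ y) - -(ρ y * ρ x) + -(ρ x * ρ y) * -(ρ y * ρ x) := by
    rw [← lS2]; unfold Sop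
    rw [map_mul, map_mul, rho_inv_order3 ρ hfree hx]
  unfold Aop at a1 a2 a3 a4
  rw [eSx] at a1
  rw [eSy] at a2
  rw [eS1] at a3
  rw [eS2] at a4
  set a := -(ρ x * ρ y) with ha
  set b := -(ρ y * ρ x) with hb
  set s := Sop ρ w with hsd
  have b2 : (s*(a-b-a*b) + (a-b-a*b)*s)*(s*(a-b-a*b) + (a-b-a*b)*s) = 20 := by
    rw [← a3]; noncomm_ring
  have b3 : (s*(-a+b-a*b) + (-a+b-a*b)*s)*(s*(-a+b-a*b) + (-a+b-a*b)*s) = 20 := by
    rw [← a4]; noncomm_ring
  have b4 : (s*(-a-b+a*b) + (-a-b+a*b)*s)*(s*(-a-b+a*b) + (-a-b+a*b)*s) = 20 := by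
    rw [← a2]; noncomm_ring
  obtain ⟨hprod, ca, cb, cc⟩ := star_alg h2K a b s la lb lab hs a1 b2 b3 b4
  have f1 : ρ (x * y) = -a := by rw [ha, neg_neg, map_mul]
  have f2 : ρ (y * x) = -b := by rw [hb, neg_neg, map_mul]
  have f3 : ρ (x * y * (y * x)) = a * b := by rw [map_mul, f1, f2, neg_mul_neg]
  have q1 : ρ (x * y) * ρ (x * y) = -1 := by rw [f1, neg_mul_neg, la]
  have q2 : ρ (y * x) * ρ (y * x) = -1 := by rw [f2, neg_mul_neg, lb]
  have q3 : ρ (x * y * (y * x)) * ρ (x * y * (y * x)) = -1 := by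
    rw [f3]
    have : a * b * (a * b) = a * (b * a) * b := by noncomm_ring
    rw [this, lab]
    have : a * -(a * b) * b = -((a * a) * (b * b)) := by noncomm_ring
    rw [this, la, lb]; simp
  have comm_s : ∀ f : H, w * f = f * w → s * ρ f = ρ f * s := by
    intro f hf
    have : ρ w * ρ f = ρ f * ρ w := by rw [← map_mul, ← map_mul, hf]
    rw [hsd]; unfold Sop
    rw [add_mul, add_mul, mul_add, mul_add, this]; simp
  by_cases c1 : w * (x * y) = (x * y) * w
  · have e := comm_s _ c1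
    rw [f1] at e
    have e' : s * a = a * s := by
      have := congrArg Neg.neg e
      simpa using this
    have h4 := ca e'
    refine S2 ρ hfree hN1 h2K hw q1 q2 ?_ c1 ?_
    · rw [f1, f2, show -b * -a = b * a by noncomm_ring, show -a * -b = a * b by noncomm_ring]
      exact lab
    · rw [f2, ← h4]; noncomm_ring
  by_cases c2 : w * (y * x) = (y * x) * w
  · have e := comm_s _ c2
    rw [f2] at e
    have e' : s * b = b * s := by
      have := congrArg Neg.neg e
      simpa using this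
    have h4 := cb e'
    refine S2 ρ hfree hN1 h2K hw q2 q1 ?_ c2 ?_
    · rw [f1, f2, show -b * -a = b * a by noncomm_ring, show -a * -b = a * b by noncomm_ring, lab, neg_neg]
    · rw [f1, ← h4]; noncomm_ring
  by_cases c3 : w * (x * y * (y * x)) = (x * y * (y * x)) * w
  · have e := comm_s _ c3
    rw [f3] at e
    have h4 := cc e
    refine S2 ρ hfree hN1 h2K hw q3 q1 ?_ c3 ?_
    · rw [f1, f3]
      have : -a * (a * b) = -((a * a) * b) := by noncomm_ring
      rw [this, la]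
      have : a * b * -a = -(a * (b * a)) := by noncomm_ring
      rw [this, lab]
      have : -(a * -(a * b)) = (a * a) * b := by noncomm_ring
      rw [this, la]
    · rw [f1, ← h4]; noncomm_ring
  have i1 := comm_Sop_inj ρ hfree h2K c1
  have i2 := comm_Sop_inj ρ hfree h2K c2
  have i3 := comm_Sop_inj ρ hfree h2K c3
  rw [f1] at i1
  rw [f2] at i2
  rw [f3] at i3
  have hp : (s * -a - -a * s) * ((s * -b - -b * s) * (s * (a * b) - a * b * s)) = 0 := by
    rw [← hprod]; noncomm_ring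
  have z1 := eq_zero_of_inj_mul i1 hp
  have z2 := eq_zero_of_inj_mul i2 z1
  rw [z2] at i3
  obtain ⟨v, hv⟩ := exists_ne (0 : V)
  exact hv (i3 (by simp))

omit hN1 in
theorem Aop_pm {w q : H} (hw : orderOf w = 3) (hq : orderOf q = 3)
    (m : orderOf (w * q) = 4 ∨ orderOf (w * q⁻¹) = 4) :
    ∃ k : K, k * k = 4 ∧ Aop ρ w q = k • 1 := by
  rcases m with m | m
  · refine ⟨-2, by norm_num, ?_⟩
    rw [Aop_of_order4 ρ hfree hw hq m, neg_smul, two_smul]; norm_num
  · refine ⟨2, by norm_num, ?_⟩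
    have := Aop_of_order4 ρ hfree hw (by rw [orderOf_inv, hq]) m
    rw [Aop_inv_right ρ hfree w hq] at this
    rw [two_smul, ← neg_eq_iff_eq_neg.mpr this.symm]
    norm_num

omit hN1 in
theorem P1 {x y w : H} (hx : orderOf x = 3) (hy : orderOf y = 3) (hw : orderOf w = 3)
    (hxy : orderOf (x * y) = 4) (m1 : orderOf (w * x) = 4 ∨ orderOf (w * x⁻¹) = 4)
    (m2 : orderOf (w * y) = 4 ∨ orderOf (w * y⁻¹) = 4)
    (m3 : orderOf (w * (x⁻¹ * y * x)) = 4 ∨ orderOf (w * (x⁻¹ * y * x)⁻¹) = 4)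
    (m4 : orderOf (w * (x * y * x⁻¹)) = 4 ∨ orderOf (w * (x * y * x⁻¹)⁻¹) = 4) : False := by
  have h2K := two_ne_zero_of_order4 ρ hfree hxy
  have hX := rho_order3 ρ hfree hx
  have hY := rho_order3 ρ hfree hy
  have hYX := col_rule ρ hfree hx hy hxy
  obtain ⟨la, lb, lab, lSx, lSy, lS1, lS2⟩ := line_alg (ρ x) (ρ y) hX hY hYX
  have hs := Sop_sq ρ hfree hw
  obtain ⟨k1, hk1, a1⟩ := Aop_pm ρ hfree hw hx m1
  obtain ⟨k2, hk2, a2⟩ := Aop_pm ρ hfree hw hy m2
  obtain ⟨k3, hk3, a3⟩ := Aop_pm ρ hfree hw (by rw [order_conj', hy]) m3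
  obtain ⟨k4, hk4, a4⟩ := Aop_pm ρ hfree hw (by rw [order_conj, hy]) m4
  have eSx : Sop ρ x = -(ρ x * ρ y) + -(ρ y * ρ x) + -(ρ x * ρ y) * -(ρ y * ρ x) := lSx
  have eSy : Sop ρ y = -(ρ x * ρ y) + -(ρ y * ρ x) - -(ρ x * ρ y) * -(ρ y * ρ x) := lSy
  have eS1 : Sop ρ (x⁻¹ * y * x) = - -(ρ x * ρ y) + -(ρ y * ρ x) + -(ρ x * ρ y) * -(ρ y * ρ x) := by
    rw [← lS1]; unfold Sop
    rw [map_mul, map_mul, rho_inv_order3 ρ hfree hx]
  have eS2 : Sop ρ (x * y * x⁻¹) = -(ρ x * ρ y) - -(ρ y * ρ x) + -(ρ x * ρ y) * -(ρ y * ρ x) := by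
    rw [← lS2]; unfold Sop
    rw [map_mul, map_mul, rho_inv_order3 ρ hfree hx]
  unfold Aop at a1 a2 a3 a4
  rw [eSx] at a1
  rw [eSy] at a2
  rw [eS1] at a3
  rw [eS2] at a4
  set a := -(ρ x * ρ y) with ha
  set b := -(ρ y * ρ x) with hb
  set s := Sop ρ w with hsd
  have b2 : s*(a-b-a*b) + (a-b-a*b)*s = (-k3) • 1 := by
    rw [neg_smul, ← a3]; noncomm_ring
  have b3 : s*(-a+b-a*b) + (-a+b-a*b)*s = (-k4) • 1 := by
    rw [neg_smul, ← a4]; noncomm_ring
  have b4 : s*(-a-b+a*b) + (-a-b+a*b)*s = (-k2) • 1 := by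
    rw [neg_smul, ← a2]; noncomm_ring
  have h48 := P1_alg h2K a b s la lb lab hs k1 (-k3) (-k4) (-k2) a1 b2 b3 b4
  have : (2 : K) ^ 5 = 0 := by linear_combination -h48 + hk1 + hk2 + hk3 + hk4
  exact h2K (pow_eq_zero_iff (by norm_num) |>.mp this)

theorem ThmG {x y : H} (hx : orderOf x = 3) (hy : orderOf y = 3) (hxy : orderOf (x * y) = 4)
    (hno : ∀ u v : H, orderOf u = 3 → orderOf v = 3 → orderOf (u * v) ≠ 10)
    (v : H) (hv : orderOf v = 3) :
    v ∈ Subgroup.zpowers x ∨ v ∈ Subgroup.zpowers y ∨ v ∈ Subgroup.zpowers (x⁻¹ * y * x) ∨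
      v ∈ Subgroup.zpowers (x * y * x⁻¹) := by
  have alt : ∀ q : H, orderOf q = 3 → v ∉ Subgroup.zpowers q →
      orderOf (v * q) = 4 ∨ orderOf (v * q⁻¹) = 4 := by
    intro q hq hnot
    rcases hN1 v q hv hq with h | h | h | h | h
    · exact (hnot (h ▸ Subgroup.mem_zpowers q)).elim
    · refine (hnot ?_).elim
      have : v = q⁻¹ := by rw [h, inv_inv]
      rw [this]; exact (Subgroup.zpowers q).inv_mem (Subgroup.mem_zpowers q)
    · exact Or.inl h
    · exact Or.inr h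
    · exact (hno v q hv hq h).elim
  by_contra hcon
  push Not at hcon
  obtain ⟨n1, n2, n3, n4⟩ := hcon
  exact P1 ρ hfree hx hy hv hxy (alt x hx n1) (alt y hy n2)
    (alt _ (by rw [order_conj', hy]) n3) (alt _ (by rw [order_conj, hy]) n4)

end Geom

theorem order_mul_comm {H : Type*} [Group H] (a b : H) : orderOf (a * b) = orderOf (b * a) := by
  rw [← order_conj' a (a * b)]
  congr 1
  group

section Final
variable {K V H : Type*} [Field K] [AddCommGroup V] [Module K V] [Nontrivial V] [Group H] [Finite H]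
  (ρ : H →* Module.End K V)
  (hfree : ∀ g : H, g ≠ 1 → ∀ v : V, ρ g v = v → v = 0)
  (hN1 : ∀ x y : H, orderOf x = 3 → orderOf y = 3 →
    y = x ∨ y = x⁻¹ ∨ orderOf (x * y) = 4 ∨ orderOf (x * y⁻¹) = 4 ∨ orderOf (x * y) = 10)
  (hQP : ∀ x y : H, orderOf x = 3 → orderOf y = 3 → orderOf (x * y) = 10 →
    Nat.card (Subgroup.closure {x, y}) = 120)
  (hQT : ∀ x0 x1 x2 : H, orderOf x0 = 3 → orderOf x1 = 3 → orderOf x2 = 3 →
    orderOf (x0 * x1) = 4 → orderOf (x0 * x2) = 4 →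
    Nat.card (Subgroup.closure {x0, x1, x2}) = 24 ∨ Nat.card (Subgroup.closure {x0, x1, x2}) = 120)

include hN1 hQT in
theorem F3 (E : Subgroup H) (hE : Nat.card E = 120) {q w' q' : H}
    (hEq : Subgroup.closure {q, w'} = E) (hq : orderOf q = 3) (hw' : orderOf w' = 3)
    (hq' : orderOf q' = 3) (h4 : orderOf (q * q') = 4) (hne : orderOf (w' * q') ≠ 10) : q' ∈ E := by
  have hwE : w' ∈ E := hEq ▸ Subgroup.subset_closure (by simp)
  have key : ∀ w'' : H, orderOf w'' = 3 → orderOf (q' * w'') = 4 →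
      w' ∈ Subgroup.closure {q', q, w''} → q' ∈ E := by
    intro w'' hw'' h4' hmem
    have hle : E ≤ Subgroup.closure {q', q, w''} := by
      rw [← hEq, Subgroup.closure_le]
      rintro z (rfl | rfl)
      · exact Subgroup.subset_closure (by simp)
      · exact hmem
    have hc := hQT q' q w'' hq' hq hw'' (by rw [order_mul_comm, h4]) h4'
    have hle' := Subgroup.card_le_of_le hle
    have hc' : Nat.card (Subgroup.closure {q', q, w''}) = 120 := by
      rcases hc with h | h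
      · omega
      · exact h
    have := Subgroup.eq_of_le_of_card_ge hle (by rw [hc', hE])
    rw [this]
    exact Subgroup.subset_closure (by simp)
  rcases hN1 w' q' hw' hq' with h | h | h | h | h
  · rw [h]; exact hwE
  · rw [h]; exact E.inv_mem hwE
  · exact key w' hw' (by rw [order_mul_comm, h]) (Subgroup.subset_closure (by simp))
  · refine key w'⁻¹ (by rw [orderOf_inv, hw']) ?_ ?_
    · rw [← orderOf_inv, mul_inv_rev, inv_inv, h]
    · have : w'⁻¹ ∈ Subgroup.closure {q', q, w'⁻¹} := Subgroup.subset_closure (by simp)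
      simpa using (Subgroup.closure {q', q, w'⁻¹}).inv_mem this
  · exact (hne h).elim

include hfree hN1 hQT in
theorem F2 (E : Subgroup H) (hE : Nat.card E = 120) {q w' v : H}
    (hEq : Subgroup.closure {q, w'} = E) (hq : orderOf q = 3) (hw' : orderOf w' = 3)
    (hv : orderOf v = 3) (hNC : orderOf (q * w') = 10) (h4 : orderOf (q * v) = 4) : v ∈ E := by
  have hqE : q ∈ E := hEq ▸ Subgroup.subset_closure (by simp)
  by_contra hvE
  have n2 : orderOf (w' * v) = 10 := by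
    by_contra hne
    exact hvE (F3 hN1 hQT E hE hEq hq hw' hv h4 hne)
  have n3 : orderOf (w' * (q⁻¹ * v * q)) = 10 := by
    by_contra hne
    have h4' : orderOf (q * (q⁻¹ * v * q)) = 4 := by
      rw [← h4, ← order_conj' q (q * v)]
      congr 1
      group
    have := F3 hN1 hQT E hE hEq hq hw' (by rw [order_conj', hv]) h4' hne
    apply hvE
    have h2 := E.mul_mem (E.mul_mem hqE this) (E.inv_mem hqE)
    have e : q * (q⁻¹ * v * q) * q⁻¹ = v := by group
    rwa [e] at h2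
  have n4 : orderOf (w' * (q * v * q⁻¹)) = 10 := by
    by_contra hne
    have h4' : orderOf (q * (q * v * q⁻¹)) = 4 := by
      rw [← h4, ← order_conj q (q * v)]
      congr 1
      group
    have := F3 hN1 hQT E hE hEq hq hw' (by rw [order_conj, hv]) h4' hne
    apply hvE
    have h2 := E.mul_mem (E.mul_mem (E.inv_mem hqE) this) hqE
    have e : q⁻¹ * (q * v * q⁻¹) * q = v := by group
    rwa [e] at h2
  exact Star ρ hfree hN1 hq hv hw' h4 (by rw [order_mul_comm, hNC]) n2 n3 n4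

include hfree hN1 hQT in
theorem F1 (E : Subgroup H) (hE : Nat.card E = 120) {q w' v : H}
    (hEq : Subgroup.closure {q, w'} = E) (hq : orderOf q = 3) (hw' : orderOf w' = 3)
    (hv : orderOf v = 3) (hNC : orderOf (q * w') = 10) (hne : orderOf (v * q) ≠ 10) : v ∈ E := by
  have hqE : q ∈ E := hEq ▸ Subgroup.subset_closure (by simp)
  rcases hN1 v q hv hq with h | h | h | h | h
  · rw [← h]; exact hqE
  · have : v = q⁻¹ := by rw [h, inv_inv]
    rw [this]; exact E.inv_mem hqE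
  · exact F2 ρ hfree hN1 hQT E hE hEq hq hw' hv hNC (by rw [order_mul_comm, h])
  · have := F2 ρ hfree hN1 hQT E hE hEq hq hw' (v := v⁻¹) (by rw [orderOf_inv, hv]) hNC
      (by rw [← orderOf_inv, mul_inv_rev, inv_inv, h])
    simpa using E.inv_mem this
  · exact (hne h).elim

include hfree hN1 hQP hQT in
theorem ThmF {y w : H} (hy : orderOf y = 3) (hw : orderOf w = 3) (hNC : orderOf (y * w) = 10)
    (v : H) (hv : orderOf v = 3) : v ∈ Subgroup.closure {y, w} := by
  set E := Subgroup.closure {y, w} with hEd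
  have hE : Nat.card E = 120 := hQP y w hy hw hNC
  have hyE : y ∈ E := Subgroup.subset_closure (by simp)
  have hwE : w ∈ E := Subgroup.subset_closure (by simp)
  -- conjugate pairs generate E as well
  have conj : ∀ h ∈ E, orderOf (v * (h * y * h⁻¹)) ≠ 10 → v ∈ E := by
    intro h hh hne
    have o1 : orderOf (h * y * h⁻¹) = 3 := by rw [order_conj, hy]
    have o2 : orderOf (h * w * h⁻¹) = 3 := by rw [order_conj, hw]
    have o3 : orderOf (h * y * h⁻¹ * (h * w * h⁻¹)) = 10 := by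
      rw [← hNC, ← order_conj h (y * w)]
      congr 1
      group
    have hle : Subgroup.closure {h * y * h⁻¹, h * w * h⁻¹} ≤ E := by
      rw [Subgroup.closure_le]
      rintro z (rfl | rfl)
      · exact E.mul_mem (E.mul_mem hh hyE) (E.inv_mem hh)
      · exact E.mul_mem (E.mul_mem hh hwE) (E.inv_mem hh)
    have hEq := Subgroup.eq_of_le_of_card_ge hle (by rw [hE, hQP _ _ o1 o2 o3])
    exact F1 ρ hfree hN1 hQT E hE hEq o1 o2 hv o3 hne
  have h7 := seven ρ hfree hy hw hNC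
  by_contra hvE
  have n1 : orderOf (v * y) = 10 := by
    by_contra hne
    apply hvE
    apply conj 1 E.one_mem
    simpa using hne
  have n2 : orderOf (v * (w⁻¹ * y * w)) = 10 := by
    by_contra hne
    apply hvE
    apply conj w⁻¹ (E.inv_mem hwE)
    simpa using hne
  have n3 : orderOf (v * (y⁻¹ * (w⁻¹ * y * w) * y)) = 10 := by
    by_contra hne
    apply hvE
    apply conj (y⁻¹ * w⁻¹) (E.mul_mem (E.inv_mem hyE) (E.inv_mem hwE))
    have e : y⁻¹ * w⁻¹ * y * (y⁻¹ * w⁻¹)⁻¹ = y⁻¹ * (w⁻¹ * y * w) * y := by group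
    rwa [e]
  have n4 : orderOf (v * (y * (w⁻¹ * y * w) * y⁻¹)) = 10 := by
    by_contra hne
    apply hvE
    apply conj (y * w⁻¹) (E.mul_mem hyE (E.inv_mem hwE))
    have e : y * w⁻¹ * y * (y * w⁻¹)⁻¹ = y * (w⁻¹ * y * w) * y⁻¹ := by group
    rwa [e]
  exact Star ρ hfree hN1 hy (by rw [order_conj', hy]) hv h7 n1 n2 n3 n4

end Final
end Cfsg.Agent.Lib.Helper61.Zass
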