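import Mathlib
import Cfsg.Agent.Lib.Helper61.ZassDefs
import Cfsg.Agent.Lib.Helper61.ZassGeom
import Cfsg.Agent.Lib.Helper70.ZassN
import Cfsg.Agent.Lib.Helper38.ZassG
import Cfsg.Agent.Lib.Helper38.ZassP
import Cfsg.Agent.Lib.Helper59.ZassH
import Cfsg.Agent.Lib.Helper76.ZassI

set_option autoImplicit false
set_option linter.unusedSectionVars false

namespace Cfsg.Agent.Lib.Helper61.Zass

open Cfsg.Agent.Lib.Helper76.Zass (QP QT)

section Lin
variable {K V H : Type*} [Field K] [IsAlgClosed K] [AddCommGroup V] [Module K V]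
  [FiniteDimensional K V] [Nontrivial V] [Group H] [Finite H]
  (ρ : H →* Module.End K V) (hfree : ∀ g : H, g ≠ 1 → ∀ v : V, ρ g v = v → v = 0)
include hfree

theorem N1full (x y : H) (hx : orderOf x = 3) (hy : orderOf y = 3) :
    y = x ∨ y = x⁻¹ ∨ orderOf (x * y) = 4 ∨ orderOf (x * y⁻¹) = 4 ∨ orderOf (x * y) = 10 := by
  have hx3 : x ^ 3 = 1 := by rw [← hx, pow_orderOf_eq_one]
  have hy3 : y ^ 3 = 1 := by rw [← hy, pow_orderOf_eq_one]
  by_cases hc : x * y = y * x
  · have c1 : Commute x y := hc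
    have c2 : Commute x y⁻¹ := c1.inv_right
    apply Cfsg.Agent.Lib.Helper70.Zass.N1 ρ hfree x y hx hy
    · right; left
      rw [c1.mul_pow, show 6 = 3 * 2 from rfl, pow_mul, pow_mul, hx3, hy3]; simp
    · right; left
      rw [c2.mul_pow, show 6 = 3 * 2 from rfl, pow_mul, pow_mul, hx3, inv_pow, hy3]; simp
  · obtain ⟨-, hexp⟩ := QP ρ hfree x y hx hy hc
    have mx : x ∈ Subgroup.closure {x, y} := Subgroup.subset_closure (by simp)
    have my : y ∈ Subgroup.closure {x, y} := Subgroup.subset_closure (by simp)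
    exact Cfsg.Agent.Lib.Helper70.Zass.N1 ρ hfree x y hx hy
      (hexp _ (Subgroup.mul_mem _ mx my)) (hexp _ (Subgroup.mul_mem _ mx (Subgroup.inv_mem _ my)))

theorem QP120 (x y : H) (hx : orderOf x = 3) (hy : orderOf y = 3) (h : orderOf (x * y) = 10) :
    Nat.card (Subgroup.closure {x, y}) = 120 := by
  have hx3 : x ^ 3 = 1 := by rw [← hx, pow_orderOf_eq_one]
  have hy3 : y ^ 3 = 1 := by rw [← hy, pow_orderOf_eq_one]
  have hc : x * y ≠ y * x := by
    intro hc
    have c1 : Commute x y := hc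
    have : (x * y) ^ 3 = 1 := by rw [c1.mul_pow, hx3, hy3, one_mul]
    have := orderOf_dvd_of_pow_eq_one this
    rw [h] at this
    omega
  obtain ⟨hcard, -⟩ := QP ρ hfree x y hx hy hc
  have mx : x ∈ Subgroup.closure {x, y} := Subgroup.subset_closure (by simp)
  have my : y ∈ Subgroup.closure {x, y} := Subgroup.subset_closure (by simp)
  have hd : orderOf (⟨x * y, Subgroup.mul_mem _ mx my⟩ : Subgroup.closure {x, y}) ∣
      Nat.card (Subgroup.closure {x, y}) := orderOf_dvd_natCard _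
  rw [Subgroup.orderOf_mk, h] at hd
  rcases hcard with h24 | h120
  · rw [h24] at hd; omega
  · exact h120

end Lin

/-- all the facts about elements of order three in a finite group with a free representation -/
theorem facts {H : Type*} [Group H] [Finite H] (h : HasFreeRep H) :
    (∀ x y : H, orderOf x = 3 → orderOf y = 3 → y = x ∨ y = x⁻¹ ∨ orderOf (x * y) = 4 ∨
      orderOf (x * y⁻¹) = 4 ∨ orderOf (x * y) = 10) ∧
    (∀ x y : H, orderOf x = 3 → orderOf y = 3 → orderOf (x * y) = 4 →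
      (∀ u v : H, orderOf u = 3 → orderOf v = 3 → orderOf (u * v) ≠ 10) →
      ∀ v, orderOf v = 3 → v ∈ Subgroup.zpowers x ∨ v ∈ Subgroup.zpowers y ∨
        v ∈ Subgroup.zpowers (x⁻¹ * y * x) ∨ v ∈ Subgroup.zpowers (x * y * x⁻¹)) ∧
    (∀ y w : H, orderOf y = 3 → orderOf w = 3 → orderOf (y * w) = 10 →
      Nat.card (Subgroup.closure {y, w}) = 120 ∧
      (∀ v : H, orderOf v = 3 → v ∈ Subgroup.closure {y, w}) ∧
      orderOf (y * (w⁻¹ * y * w)) = 4) := by
  obtain ⟨K, _, _, V, _, _, _, _, ρ, hfree⟩ := h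
  have hN1 := N1full ρ hfree
  refine ⟨hN1, ?_, ?_⟩
  · intro x y hx hy hxy hno v hv
    exact ThmG ρ hfree hN1 hx hy hxy hno v hv
  · intro y w hy hw hyw
    exact ⟨QP120 ρ hfree y w hy hw hyw,
      ThmF ρ hfree hN1 (QP120 ρ hfree) (QT ρ hfree) hy hw hyw, seven ρ hfree hy hw hyw⟩

/-- Zassenhaus: structure of a non-solvable finite group with a free representation. -/
theorem structure_of_nonsolvable {G : Type*} [Group G] [Finite G] (hFR : HasFreeRep G)
    (hns : ¬ Group.IsSolvable G) :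
    ∃ G₀ : Subgroup G, G₀.Normal ∧ (G₀.index = 1 ∨ G₀.index = 2) ∧
      ∃ S M : Subgroup G, S ⊔ M = G₀ ∧ S ⊓ M = ⊥ ∧ (∀ s ∈ S, ∀ x ∈ M, s * x = x * s) ∧
        Nonempty (S ≃* Matrix.SpecialLinearGroup (Fin 2) (ZMod 5)) ∧
        (∀ (p : ℕ) [Fact p.Prime] (P : Sylow p M), IsCyclic P) ∧ (Nat.card M).Coprime 30 := by
  obtain ⟨R, hR, hperf⟩ := Cfsg.Agent.Lib.Helper38.Zass.exists_perfect_subgroup hns
  have : Nontrivial R := (Subgroup.nontrivial_iff_ne_bot R).2 hR
  obtain ⟨rN1, rG, -⟩ := facts (hFR.subgroup R)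
  obtain ⟨y, w, hy, hw, hyw⟩ :=
    Cfsg.Agent.Lib.Helper59.Zass.exists_NC_of_perfect (hFR.subgroup R) hperf rN1 rG
  have hy' : orderOf (y : G) = 3 := by rw [Subgroup.orderOf_coe, hy]
  have hw' : orderOf (w : G) = 3 := by rw [Subgroup.orderOf_coe, hw]
  have hyw' : orderOf ((y : G) * (w : G)) = 10 := by
    rw [← hyw, ← Subgroup.orderOf_coe]; rfl
  obtain ⟨-, -, gF⟩ := facts hFR
  obtain ⟨hcard, hF, h7⟩ := gF y w hy' hw' hyw'
  obtain ⟨-, -, h7'⟩ := gF w y hw' hy' (by rw [order_mul_comm, hyw'])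
  exact Cfsg.Agent.Lib.Helper38.Zass.structure_of_NC hFR y w hy' hw' hyw' hcard hF h7 h7'

/-- Zassenhaus: a perfect non-trivial finite group with a free representation is `SL(2,5)`. -/
theorem perfect_iso {G : Type*} [Group G] [Finite G] [Nontrivial G] (hFR : HasFreeRep G)
    (hperf : commutator G = ⊤) :
    Nonempty (G ≃* Matrix.SpecialLinearGroup (Fin 2) (ZMod 5)) := by
  have hns : ¬ Group.IsSolvable G := by
    intro hs
    exact (ne_of_lt (Group.IsSolvable.commutator_lt_top_of_nontrivial G)) hperf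
  obtain ⟨G₀, hn, hidx, S, M, hsup, hinf, hcomm, ⟨e⟩, hcyc, -⟩ := structure_of_nonsolvable hFR hns
  have hG₀ : G₀ = ⊤ := by
    apply Cfsg.Agent.Lib.Helper59.Zass.eq_top_of_index_le_four hperf
    have : Nat.card (G ⧸ G₀) = G₀.index := rfl
    rw [this]
    rcases hidx with h | h <;> omega
  rw [hG₀] at hsup
  have hSn : S.Normal := by
    rw [← Subgroup.normalizer_eq_top_iff, eq_top_iff, ← hsup, sup_le_iff]
    refine ⟨Subgroup.le_normalizer, ?_⟩
    intro m hm
    rw [Subgroup.mem_normalizer_iff]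
    intro s
    constructor
    · intro hs
      have : m * s * m⁻¹ = s := by rw [← hcomm s hs m hm]; group
      rw [this]; exact hs
    · intro hs
      have h1 := hcomm _ hs m hm
      have : s = m * s * m⁻¹ := by
        have h2 : m * s * m⁻¹ * m = m * s := by group
        rw [h2] at h1
        have h3 : s = m * s * m⁻¹ := by
          have := mul_left_cancel h1
          exact this
        exact h3
      rw [this]; exact hs
  have : IsZGroup M := ⟨fun p hp P => by have := Fact.mk hp; exact hcyc p P⟩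
  have hMs : Group.IsSolvable M := inferInstance
  let f : M →* G ⧸ S := (QuotientGroup.mk' S).comp M.subtype
  have hf : Function.Surjective f := by
    intro q
    obtain ⟨g, rfl⟩ := QuotientGroup.mk'_surjective S q
    have hg : g ∈ ((S ⊔ M : Subgroup G) : Set G) := by rw [hsup]; trivial
    rw [Subgroup.normal_mul] at hg
    obtain ⟨s, hs, m, hm, rfl⟩ := Set.mem_mul.1 hg
    refine ⟨⟨m, hm⟩, ?_⟩
    change QuotientGroup.mk' S m = QuotientGroup.mk' S (s * m)
    have h1 : QuotientGroup.mk' S s = 1 := (QuotientGroup.eq_one_iff (N := S) s).2 hs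
    rw [map_mul, h1, one_mul]
  have hqs : Group.IsSolvable (G ⧸ S) := Group.isSolvable_of_surjective hf
  have hS : S = ⊤ := by
    rw [eq_top_iff]
    intro g _
    have := Cfsg.Agent.Lib.Helper59.Zass.hom_trivial_of_perfect hperf hqs (QuotientGroup.mk' S) g
    exact (QuotientGroup.eq_one_iff g).1 this
  exact ⟨(Subgroup.topEquiv.symm.trans (MulEquiv.subgroupCongr hS.symm)).trans e⟩

end Cfsg.Agent.Lib.Helper61.Zass
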