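import Mathlib
import Cfsg.Agent.Lib.Helper41.RegLin4

set_option autoImplicit false

namespace Cfsg.Agent.Lib.Helper61.Semi

open Subgroup Cfsg.Agent.Lib.Helper41 Cfsg.Agent.Lib.Helper61.Zass

/-- the exceptional solvable regular linear groups have a normal quaternion subgroup of order 8
(the beginning of helper41's proof of S0688). -/
theorem exists_normal_q8 {p : ℕ} [Fact p.Prime] {V : Type*} [AddCommGroup V] [Module (ZMod p) V]
    [Finite V] (H : Subgroup (V ≃ₗ[ZMod p] V))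
    (hreg : ∀ v w : V, v ≠ 0 → w ≠ 0 → ∃! h : H, (h : V ≃ₗ[ZMod p] V) v = w)
    (hI : ∀ A : Subgroup H, A.Normal → IsCyclic A → ∃ W : Submodule (ZMod p) V, W ≠ ⊥ ∧ W ≠ ⊤ ∧
      ∀ a ∈ A, ∀ v ∈ W, ((a : H) : V ≃ₗ[ZMod p] V) v ∈ W)
    (hsolv : Group.IsSolvable H) : ∃ N : Subgroup H, N.Normal ∧ Nonempty (N ≃* QuaternionGroup 2) := by
  have hreg : RegOn H := hreg
  obtain ⟨A, hA⟩ := (Set.toFinite {B : Subgroup H | B.Normal ∧ IsMulCommutative B}).exists_maximal
    ⟨⊥, inferInstance, inferInstance⟩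
  have hAn : A.Normal := hA.prop.1
  have hAc : IsMulCommutative A := hA.prop.2
  have hAmax : ∀ B : Subgroup H, B.Normal → IsMulCommutative B → A ≤ B → B = A :=
    fun B h1 h2 h3 => le_antisymm (hA.le_of_ge ⟨h1, h2⟩ h3) h3
  obtain ⟨W1, hW1b, hW1t, -⟩ := hI ⊥ inferInstance inferInstance
  have hnt : Nontrivial V := by
    by_contra hnt
    rw [not_nontrivial_iff_subsingleton] at hnt
    exact hW1b (Subsingleton.elim _ _)
  have hcyc : IsCyclic A := hreg.isCyclic A hAc
  obtain ⟨W₀, h0b, h0t, h0inv⟩ := hI A hAn hcyc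
  have hne : centralizer (A : Set H) ≠ A := hreg.centralizer_ne A W₀ h0b h0t h0inv
  have hleA : A ≤ centralizer (A : Set H) := le_centralizer_iff_isMulCommutative.mpr hAc
  have hCna : ¬ IsMulCommutative (centralizer (A : Set H)) :=
    fun hc => hne (hAmax _ inferInstance hc hleA)
  obtain ⟨N, hN⟩ := (Set.toFinite {M : Subgroup H | M.Normal ∧ M ≤ centralizer (A : Set H) ∧
    ¬ IsMulCommutative M}).exists_minimal ⟨_, inferInstance, le_rfl, hCna⟩
  have hNn : N.Normal := hN.prop.1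
  have hNle : N ≤ centralizer (A : Set H) := hN.prop.2.1
  have hNna : ¬ IsMulCommutative N := hN.prop.2.2
  have hNmin : ∀ M : Subgroup H, M.Normal → M ≤ N → ¬ IsMulCommutative M → M = N :=
    fun M h1 h2 h3 => le_antisymm h2 (hN.le_of_le ⟨h1, h2.trans hNle, h3⟩ h2)
  have hFR : HasFreeRep H := by
    apply hreg.hasFreeRep
    by_contra hcon
    push Not at hcon
    exact hNna ⟨⟨fun a b => Subtype.ext ((hcon _).trans (hcon _).symm)⟩⟩
  exact ⟨N, hNn, min_nonabelian_q8 hFR A hAn hAc hAmax N hNn hNle hNna hNmin⟩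

end Cfsg.Agent.Lib.Helper61.Semi
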